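import Cfsg.Agent.Lib.Bender.Full.CaseNonlonely.Shape
import Cfsg.Agent.Lib.Bender.Full.Rank

/-!
# A noncyclic group with lonely centre

Case II: every central element of order `s` of the noncyclic `R` is lonely.  The nonlonely elements give
`E ≤ Kc`; if some `s`-th power is not one, `E` is the set of elements of order dividing `s` and an element
normalizing `R` centralizes `z`.
-/

set_option autoImplicit false
set_option linter.style.haveILetI false
set_option linter.unusedSectionVars false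

namespace CfsgLib.Bender.Full

open Subgroup MulAction
open scoped commutatorElement
open CfsgLib.Coprime (IsSylowIn conjBy)

universe u

variable {G : Type u} [Group G] [Finite G] {H : Subgroup G} {s : ℕ} [hs : Fact s.Prime]

omit [Finite G] in
include hs in
theorem pow_eq_one_of_mem_zpowers {z c : G} (hz : orderOf z = s) (hc : c ∈ zpowers z) : c ^ s = 1 := by
  obtain ⟨k, rfl⟩ := hc
  rw [← zpow_natCast, ← zpow_mul, mul_comm, zpow_mul, zpow_natCast, ← hz, pow_orderOf_eq_one, one_zpow]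

include hs in
/-- The line of two commuting elements of order `s`. -/
theorem line_facts {z w : G} (hz : orderOf z = s) (hw : w ^ s = 1) (hc : Commute z w)
    (hwz : w ∉ zpowers z) :
    IsMulCommutative ↥(zpowers z ⊔ zpowers w) ∧ (∀ v ∈ zpowers z ⊔ zpowers w, v ^ s = 1) ∧
      Nat.card ↥(zpowers z ⊔ zpowers w) = s ^ 2 := by
  have hw1 : w ≠ 1 := fun e => hwz (e ▸ one_mem _)
  have hwo : orderOf w = s := orderOf_eq_prime hw hw1
  have hn : zpowers z ≤ normalizer (zpowers w : Set G) :=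
    le_trans (fun a ha => mem_centralizer_iff.2 (by
      obtain ⟨i, rfl⟩ := ha
      rintro _ ⟨j, rfl⟩
      exact (hc.zpow_zpow i j).eq.symm)) (centralizer_le_normalizer _)
  have hmem : ∀ v ∈ zpowers z ⊔ zpowers w, ∃ i j : ℤ, v = z ^ i * w ^ j := by
    intro v hv
    have hv' : v ∈ ((zpowers z ⊔ zpowers w : Subgroup G) : Set G) := hv
    rw [coe_mul_of_left_le_normalizer_right _ _ hn] at hv'
    obtain ⟨_, ⟨i, rfl⟩, _, ⟨j, rfl⟩, rfl⟩ := hv'
    exact ⟨i, j, rfl⟩
  refine ⟨⟨⟨fun a b => Subtype.ext ?_⟩⟩, fun v hv => ?_, ?_⟩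
  · obtain ⟨i, j, ha⟩ := hmem a a.2
    obtain ⟨k, l, hb⟩ := hmem b b.2
    rw [Subgroup.coe_mul, Subgroup.coe_mul, ha, hb]
    exact ((((Commute.refl z).zpow_zpow i k).mul_right (hc.zpow_zpow i l)).mul_left
      ((hc.zpow_zpow k j).symm.mul_right ((Commute.refl w).zpow_zpow j l))).eq
  · obtain ⟨i, j, rfl⟩ := hmem v hv
    rw [(hc.zpow_zpow i j).mul_pow, pow_eq_one_of_mem_zpowers hz (zpow_mem (mem_zpowers z) i),
      pow_eq_one_of_mem_zpowers hwo (zpow_mem (mem_zpowers w) j), one_mul]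
  · have hbot : zpowers z ⊓ zpowers w = ⊥ := (eq_bot_iff_forall _).2 fun v hv => by
      by_contra hv1
      refine hwz ?_
      rw [← zpowers_eq_of_mem_prime hz hv.1 hv1, zpowers_eq_of_mem_prime hwo hv.2 hv1]
      exact mem_zpowers w
    have h1 := CfsgLib.EABasic.card_sup_mul_card_inf_of_le_normalizer hn
    rwa [hbot, Subgroup.card_bot, mul_one, Nat.card_zpowers, Nat.card_zpowers, hz, hwo, ← pow_two] at h1

namespace Shape

variable {R E : Subgroup G} {y z : G}
include hs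

theorem notMem_y (S : Shape H R E y z s) : y ∉ zpowers z := fun hm =>
  S.lonely_z (zpowers_eq_of_mem_prime S.order_z hm
    (fun e => hs.out.ne_one (by rw [← S.order_y, e, orderOf_one])) ▸ S.nonlonely_y)

theorem zpowers_central (S : Shape H R E y z s) {c : G} (hc : c ∈ zpowers z) {r : G} (hr : r ∈ R) :
    Commute c r := by
  obtain ⟨k, rfl⟩ := hc
  exact (S.central_z r hr).zpow_left k

theorem conj_z (S : Shape H R E y z s) {n : G} (hn : n ∈ normalizer (R : Set G)) :
    n * z * n⁻¹ ∈ zpowers z := by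
  refine S.central _ ((mem_normalizer_iff.1 hn z).1 (S.le S.mem_z)) fun r hr => ?_
  have h1 := (S.central_z (n⁻¹ * r * n) ((mem_normalizer_iff''.1 hn r).1 hr)).map
    (MulAut.conj n).toMonoidHom
  simpa [mul_assoc] using h1

theorem elements (S : Shape H R E y z s) {w : G} (hw : w ∈ E) :
    ∃ a ∈ zpowers z, ∃ b ∈ zpowers y, w = a * b := by
  haveI := S.elem.1
  have hc : Commute z y := S.central_z y (S.le S.mem_y)
  have hle : zpowers z ⊔ zpowers y ≤ E := sup_le (zpowers_le.2 S.mem_z) (zpowers_le.2 S.mem_y)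
  have hy : y ^ s = 1 := S.order_y ▸ pow_orderOf_eq_one y
  have h1 := eq_of_le_of_card_ge hle (by rw [S.card, (line_facts S.order_z hy hc S.notMem_y).2.2])
  have hn : zpowers z ≤ normalizer (zpowers y : Set G) := fun a ha =>
    centralizer_le_normalizer _ (mem_centralizer_iff.2 fun b hb =>
      (S.zpowers_central ha (S.le ((zpowers_le.2 S.mem_y) hb))).eq.symm)
  have hw' : w ∈ ((zpowers z ⊔ zpowers y : Subgroup G) : Set G) := h1.ge hw
  rw [coe_mul_of_left_le_normalizer_right _ _ hn] at hw'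
  obtain ⟨a, ha, b, hb, rfl⟩ := hw'
  exact ⟨a, ha, b, hb, rfl⟩

/-- Outside `⟨z⟩` the group `E` consists of conjugates of the powers of `y`. -/
theorem nonlonely_of_mem (S : Shape H R E y z s) {w : G} (hw : w ∈ E) (hwz : w ∉ zpowers z) :
    Nonlonely (zpowers w) := by
  obtain ⟨a, ha, b, hb, rfl⟩ := S.elements hw
  have hb1 : b ≠ 1 := fun e => hwz (by rwa [e, mul_one])
  have hby := zpowers_eq_of_mem_prime S.order_y hb hb1
  obtain ⟨g, hg, hgy⟩ := S.not_central_y
  have hbR : b ∈ R := S.le ((zpowers_le.2 S.mem_y) hb)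
  set c := g * b * g⁻¹ * b⁻¹ with hc
  have hcz : c ∈ zpowers z := S.comm g hg b hbR
  have hc1 : c ≠ 1 := fun e => hgy (by
    have h1 : Commute g b := mul_inv_eq_iff_eq_mul.1 (mul_inv_eq_one.1 e)
    obtain ⟨i, hi⟩ : y ∈ zpowers b := hby.ge (mem_zpowers y)
    rw [← hi]
    exact h1.zpow_right i)
  obtain ⟨m, hm⟩ : a ∈ Submonoid.powers c :=
    mem_powers_iff_mem_zpowers.2 ((zpowers_eq_of_mem_prime S.order_z hcz hc1).ge ha)
  have hcb : c * b = g * b * g⁻¹ := inv_mul_cancel_right _ _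
  have key : ∀ m : ℕ, g ^ m * b * (g ^ m)⁻¹ = c ^ m * b := by
    intro m
    induction m with
    | zero => simp
    | succ m ih =>
      calc g ^ (m + 1) * b * (g ^ (m + 1))⁻¹ = g * (g ^ m * b * (g ^ m)⁻¹) * g⁻¹ := by
            rw [pow_succ']; group
        _ = g * c ^ m * (b * g⁻¹) := by rw [ih]; group
        _ = c ^ m * g * (b * g⁻¹) := by rw [((S.zpowers_central hcz hg).pow_left m).eq]
        _ = c ^ m * (c * b) := by rw [hcb]; group
        _ = _ := (mul_assoc _ _ _).symm.trans (by rw [pow_succ])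
  rw [← hm, ← key m]
  exact nonlonely_zpowers_conj (hby ▸ S.nonlonely_y) _

/-- If some `s`-th power is not one, `E` holds every element of order dividing `s`. -/
theorem mem_of_pow (S : Shape H R E y z s) (hs2 : s ≠ 2) (hR : IsPGroup s R) {r : G} (hr : r ∈ R)
    (hrs : r ^ s ≠ 1) {w : G} (hw : w ∈ R) (hws : w ^ s = 1) : w ∈ E := by
  by_contra hwE
  have hr' : r ∈ ((zpowers w ⊔ E : Subgroup G) : Set G) := (S.sup_eq hR hw hwE).ge hr
  rw [coe_mul_of_left_le_normalizer_right _ _ ((zpowers_le.2 hw).trans S.norm)] at hr'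
  obtain ⟨_, ⟨i, rfl⟩, e, he, rfl⟩ := hr'
  have hc := S.comm e (S.le he) (w ^ i) (zpow_mem hw i)
  refine hrs ((mul_pow_prime hs2 (c := e * w ^ i * e⁻¹ * (w ^ i)⁻¹) (by group)
    (S.zpowers_central hc (zpow_mem hw i)) (S.zpowers_central hc (S.le he))
    (pow_eq_one_of_mem_zpowers S.order_z hc)).trans ?_)
  rw [S.elem.2 e he, mul_one, ← zpow_natCast, ← zpow_mul, mul_comm, zpow_mul, zpow_natCast, hws,
    one_zpow]

end Shape

theorem Setting.canLower_of_lonely_centre (h : Setting H) {x : G ⧸ H} (hx : x ≠ base H) {L : Subgroup G}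
    (hL : Layer H (pairStab (base H) x) L) (hs2 : s ≠ 2) (hsm : ¬ s ∣ numInv H) {R : Subgroup G}
    (hR : IsSylowIn s R (L ⊓ pairStab (base H) x))
    (hne : ¬ R ≤ ⁅L ⊓ pairStab (base H) x, L ⊓ pairStab (base H) x⁆) (hnc : ¬ IsCyclic R)
    (hlon : ∀ y ∈ R, orderOf y = s → (∀ r ∈ R, Commute y r) → ¬ Nonlonely (zpowers y)) :
    CanLower (pairStab (base H) x) L := by
  set M := L ⊓ pairStab (base H) x with hM
  have hRp := hR.isPGroup
  have hRD : R ≤ pairStab (base H) x := hR.1.trans inf_le_right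
  have hRb : base H ∈ fixSet R H := hRD.trans inf_le_left
  have hRx : x ∈ fixSet R H := hRD.trans inf_le_right
  have h3 : ∀ {A : Subgroup G}, A ≤ R → 2 < (fixSet A H).ncard := fun hA =>
    h.three_of_not_dvd hsm hx.symm (hRp.to_le hA) (hA.trans hRD)
  obtain ⟨E, y, z, S⟩ := h.exists_shape hx hs2 hsm hRp hRD hnc hlon
  haveI := S.elem.1
  have hyR : y ∈ R := S.le S.mem_y
  have hy1 : y ≠ 1 := fun e => hs.out.ne_one (by rw [← S.order_y, e, orderOf_one])
  have hz1 : z ≠ 1 := fun e => hs.out.ne_one (by rw [← S.order_z, e, orderOf_one])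
  have hzK : zpowers z ≤ Kc L R x := by
    obtain ⟨g, hg, hgy⟩ := S.not_central_y
    have hc1 : g * y * g⁻¹ * y⁻¹ ≠ 1 := fun e => hgy (mul_inv_eq_iff_eq_mul.1 (mul_inv_eq_one.1 e))
    rw [← zpowers_eq_of_mem_prime S.order_z (S.comm g hg y hyR) hc1, zpowers_le]
    exact mul_mem (mem_Kc (R.mul_mem (R.mul_mem hg hyR) (R.inv_mem hg))
      (nonlonely_zpowers_conj S.nonlonely_y g)) (inv_mem (mem_Kc hyR S.nonlonely_y))
  have hEK : E ≤ Kc L R x := fun e he => by
    by_cases hez : e ∈ zpowers z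
    · exact hzK hez
    · exact mem_Kc (S.le he) (S.nonlonely_of_mem he hez)
  by_cases hexp : ∀ r ∈ R, r ^ s = 1
  · -- exponent `s`: every line through `z` has a nonlonely element
    have hline : ∀ w ∈ R, w ∉ zpowers z → ∃ v ∈ zpowers z ⊔ zpowers w,
        v ≠ 1 ∧ v ∉ zpowers z ∧ Nonlonely (zpowers v) := by
      intro w hw hwz
      obtain ⟨hcomm, hpow, hcard⟩ := line_facts S.order_z (hexp w hw) (S.central_z w hw) hwz
      haveI := hcomm
      obtain ⟨v, hv, hv1, hvN⟩ := h.exists_nonlonely_line hx.symm hsm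
        ((sup_le (zpowers_le.2 (S.le S.mem_z)) (zpowers_le.2 hw)).trans hRD) hpow hcard
      exact ⟨v, hv, hv1, fun hm => S.lonely_z (zpowers_eq_of_mem_prime S.order_z hm hv1 ▸ hvN), hvN⟩
    have hWR : ∀ w ∈ R, zpowers z ⊔ zpowers w ≤ R := fun w hw =>
      sup_le (zpowers_le.2 (S.le S.mem_z)) (zpowers_le.2 hw)
    have hKc : R ≤ Kc L R x := by
      intro w hw
      by_cases hwz : w ∈ zpowers z
      · exact hzK hwz
      obtain ⟨v, hv, -, hvz, hvN⟩ := hline w hw hwz
      have hvR : v ∈ R := hWR w hw hv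
      have h1 : zpowers z ⊔ zpowers v = zpowers z ⊔ zpowers w :=
        eq_of_le_of_card_ge (sup_le le_sup_left (zpowers_le.2 hv)) (by
          rw [(line_facts S.order_z (hexp w hw) (S.central_z w hw) hwz).2.2,
            (line_facts S.order_z (hexp v hvR) (S.central_z v hvR) hvz).2.2])
      exact (sup_le hzK (zpowers_le.2 (mem_Kc hvR hvN)) : zpowers z ⊔ zpowers v ≤ Kc L R x)
        (h1.ge (mem_sup_right (mem_zpowers w)))
    refine h.canLower_of_cases hx hL hR hs2 (h.sylow_of_fix hx hL hR hs2 fun T hT hRT hTN _ => ?_) hne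
      fun hn => (hn hKc).elim
    obtain ⟨w, hw, hwz, hwT⟩ := exists_central_mod (Z := zpowers z) hT hRT hTN
      fun hle => S.notMem_y (hle hyR)
    obtain ⟨v, hv, hv1, -, hvN⟩ := hline w hw hwz
    have hvR : zpowers v ≤ R := zpowers_le.2 (hWR w hw hv)
    haveI := (line_facts S.order_z (hexp w hw) (S.central_z w hw) hwz).1
    refine ⟨zpowers v, zpowers z ⊔ zpowers w, hRp.to_le hvR, zpowers_ne_bot.2 hv1, hvN, h3 hvR,
      zpowers_le.2 hv, hWR w hw, fun a ha => centralizer_le_normalizer _ (mem_centralizer_iff.2 fun b hb =>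
        congrArg Subtype.val (mul_comm'
          (⟨b, zpowers_le.2 hv hb⟩ : ↥(zpowers z ⊔ zpowers w)) ⟨a, ha⟩)), fun t ht => ?_⟩
    have hle : zpowers z ⊔ zpowers w ≤
        (zpowers z ⊔ zpowers w).comap (MulAut.conj t).toMonoidHom := by
      refine sup_le (zpowers_le.2 ?_) (zpowers_le.2 ?_)
      · exact mem_sup_left (S.conj_z (hTN ht))
      · show t * w * t⁻¹ ∈ zpowers z ⊔ zpowers w
        rw [show t * w * t⁻¹ = ⁅w, t⁆⁻¹ * w by rw [commutatorElement_def]; group]
        exact mul_mem_sup (inv_mem (hwT t ht)) (mem_zpowers w)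
    exact mem_normalizer_fintype fun a (ha : a ∈ zpowers z ⊔ zpowers w) => hle ha
  push Not at hexp
  obtain ⟨r₀, hr₀, hr₀s⟩ := hexp
  have hΩ : ∀ {w : G}, w ∈ R → w ^ s = 1 → w ∈ E := fun hw hws => S.mem_of_pow hs2 hRp hr₀ hr₀s hw hws
  have hNE : ∀ {n : G}, n ∈ normalizer (R : Set G) → n ∈ normalizer (E : Set G) := fun {n} hn =>
    mem_normalizer_fintype fun e he =>
      hΩ ((mem_normalizer_iff.1 hn e).1 (S.le he)) (by rw [conj_pow, S.elem.2 e he]; group)
  set A := zpowers y with hA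
  have hAE : A ≤ E := zpowers_le.2 S.mem_y
  have hAR : A ≤ R := hAE.trans S.le
  have hAp : IsPGroup s A := hRp.to_le hAR
  have hA1 : A ≠ ⊥ := zpowers_ne_bot.2 hy1
  have hEA : E ≤ centralizer (A : Set G) := fun e he => mem_centralizer_iff.2 fun a ha =>
    congrArg Subtype.val (mul_comm' (⟨a, hAE ha⟩ : E) ⟨e, he⟩)
  have hEN : E ≤ normalizer (A : Set G) := hEA.trans (centralizer_le_normalizer _)
  refine h.canLower_of_cases hx hL hR hs2 (h.sylow_of_fix hx hL hR hs2 fun T _ _ hTN _ =>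
    ⟨A, E, hAp, hA1, S.nonlonely_y, h3 hAR, hAE, S.le, hEN, fun t ht => hNE (hTN ht)⟩) hne
    fun hKc => ⟨fun g _ c hc hgc => hEK (hΩ hgc ?_), fun n hnL hnR r hr => hEK (hΩ ?_ ?_)⟩
  · rw [conj_pow, pow_eq_one_of_mem_zpowers S.order_z ((commutator_le.2 fun a ha b hb => by
      rw [commutatorElement_def]; exact S.comm a ha b hb : ⁅R, R⁆ ≤ zpowers z) hc)]
    group
  · exact R.mul_mem ((mem_normalizer_iff.1 hnR r).1 hr) (R.inv_mem hr)
  -- `n` centralizes `z`
  have hnz : Commute n z := by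
    have hAb : base H ∈ fixSet A H := hAR.trans hRb
    have hAx : x ∈ fixSet A H := hAR.trans hRx
    obtain ⟨P, D⟩ := h.exists_localData hAp hA1 S.nonlonely_y hAb (h3 hAR)
    have hnx : n • x ∈ fixSet R H := smul_mem_fixSet hnR hRx
    obtain ⟨g, hgP, ⟨i, hgi⟩, hgx, hgE⟩ := D.exists_two_map h hAx hx (R := E)
      (le_inf hEN (S.le.trans hRb)) (S.le.trans hRx)
      (hAR.trans hnx) (S.le.trans hnx) (hL.smul_ne_base hnL hx)
    have hgb : g • base H = base H := mem_stabilizer_iff.1 (D.le hgP).2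
    have hgL : g ∈ L := hL.two_mem hgb hgi
    set K := fixKer A H ⊓ L with hK
    have hKM : K ≤ M := le_inf inf_le_right (inf_le_left.trans (D.fixKer_le_pairStab hAx hx hAb))
    have hEM : E ≤ M := S.le.trans hR.1
    have hEKn : E ≤ normalizer (K : Set G) := fun w hw => mem_normalizer_iff.2 fun v => and_congr
      (mem_normalizer_iff.1 (normalizer_le_normalizer_fixKer A (hEN hw)) v)
      (mem_normalizer_iff.1 (le_normalizer (hEM hw).1) v)
    have hX : K ⊔ E ≤ M ⊓ centralizer (A : Set G) :=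
      sup_le (le_inf hKM (inf_le_left.trans inf_le_left)) (le_inf hEM hEA)
    obtain ⟨T, hT, hET⟩ := exists_sylowIn_ge (hRp.to_le S.le)
      (le_sup_right : E ≤ K ⊔ E)
    have hTE : E = T := by
      by_contra hne'
      have hlt : E < T := lt_of_le_of_ne hET hne'
      obtain ⟨R', hR', hTR'⟩ := exists_sylowIn_ge hT.isPGroup ((hT.1.trans hX).trans inf_le_left)
      obtain ⟨k, -, hk⟩ := hR'.exists_conj hR
      have hle : conjBy k T ≤ R := hk ▸ map_mono hTR'
      have heq : conjBy k T = R := eq_of_le_of_card_ge hle (S.card_le.trans (by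
        rw [CfsgLib.Coprime.card_conjBy]; exact mul_le_card_of_lt hT.isPGroup hlt))
      refine hlon (k * y * k⁻¹) (hle ⟨y, hET S.mem_y, rfl⟩)
        (orderOf_eq_prime (by rw [conj_pow, ← S.order_y, pow_orderOf_eq_one]; group)
          fun e => hy1 (conj_eq_one_iff.1 e)) (fun r' hr' => ?_) (nonlonely_zpowers_conj S.nonlonely_y k)
      obtain ⟨t, ht, rfl⟩ := heq.ge hr'
      exact (show Commute y t from
        mem_centralizer_iff.1 ((hT.1.trans hX) ht).2 y (mem_zpowers y)).map (MulAut.conj k).toMonoidHom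
    have hsyl : IsSylowIn s E (K ⊔ E) := hTE ▸ hT
    obtain ⟨κ, hκ, hqN, hqE⟩ := exists_frattini hEKn hsyl (g := g) fun w hw => ⟨hgE w hw,
      L.mul_mem (L.mul_mem (L.mul_mem (L.inv_mem hgL) (hEM hw).1) hgL) (L.inv_mem (hEM hw).1)⟩
    set q := g * κ⁻¹ with hq
    -- `q` centralizes `z`
    have hqz : Commute q z := by
      obtain ⟨hvK, hvE⟩ := hqE z S.mem_z
      have hvy : q⁻¹ * z * q * z⁻¹ ∈ zpowers y := S.kern_le ⟨hvE, mem_kern.2 fun u hu hub huA =>
        (D.commute_fixKer h hAb hAx hx hu huA hub hvK.1).symm⟩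
      have hwE : q⁻¹ * z * q ∈ E := (mem_normalizer_iff''.1 hqN z).1 S.mem_z
      have hwz : q⁻¹ * z * q ∈ zpowers z := by
        by_contra hwz
        have h1 := nonlonely_zpowers_conj (S.nonlonely_of_mem hwE hwz) q
        rw [show q * (q⁻¹ * z * q) * q⁻¹ = z by group] at h1
        exact S.lonely_z h1
      have hv1 : q⁻¹ * z * q * z⁻¹ = 1 := by
        by_contra hne'
        exact S.notMem_y ((zpowers_eq_of_mem_prime S.order_z (mul_mem hwz (inv_mem (mem_zpowers z))) hne').le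
          ((zpowers_eq_of_mem_prime S.order_y hvy hne').ge (mem_zpowers y)))
      have h1 := mul_inv_eq_one.1 hv1
      calc q * z = q * (q⁻¹ * z * q) := by rw [h1]
        _ = z * q := by group
    set z' := n * z * n⁻¹ with hz'
    have hz'z : z' ∈ zpowers z := S.conj_z hnR
    have hz'1 : z' ≠ 1 := fun e => hz1 (conj_eq_one_iff.1 e)
    have hzz' : ∀ {a : G}, Commute a z → Commute a z' := fun {a} ha => by
      obtain ⟨k, hk⟩ := hz'z
      rw [← hk]; exact ha.zpow_right k
    set d' := q⁻¹ * n with hd'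
    have hqL : q ∈ L := L.mul_mem hgL (L.inv_mem hκ.2)
    have hqx : q • x = n • x := by
      rw [hq, mul_smul, inv_smul_eq_iff.2 (mem_stabilizer_iff.1 (hKM hκ).2.2).symm, hgx]
    have hd'L : d' ∈ L := L.mul_mem (L.inv_mem hqL) hnL
    have hd'M : d' ∈ M := ⟨hd'L, mem_stabilizer_iff.2 (hL.smul_base_eq hd'L),
      mem_stabilizer_iff.2 (by rw [hd', mul_smul, ← hqx, inv_smul_smul])⟩
    have hd'z : d' * z * d'⁻¹ = z' := by
      calc d' * z * d'⁻¹ = q⁻¹ * z' * q := by rw [hd', hz']; group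
        _ = _ := by rw [mul_assoc, ← (hzz' hqz).eq, inv_mul_cancel_left]
    -- correct it to normalize `R`
    set Y := M ⊓ centralizer ({z} : Set G) with hY
    have hRY : R ≤ Y := le_inf hR.1 fun r hr => mem_centralizer_singleton_iff.2 (S.central_z r hr).eq.symm
    have hRsy : IsSylowIn s R Y := ⟨hRY, le_antisymm (isPGroup_card_le hRp hRY) (by
      rw [hR.2]
      exact Nat.pow_le_pow_right hs.out.pos ((Nat.factorization_le_iff_dvd Nat.card_pos.ne'
        Nat.card_pos.ne').2 (card_dvd_of_le inf_le_left) s))⟩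
    have hRd : IsSylowIn s (conjBy d' R) Y := by
      refine ⟨?_, by rw [CfsgLib.Coprime.card_conjBy]; exact hRsy.2⟩
      rintro _ ⟨r', hr', rfl⟩
      show d' * r' * d'⁻¹ ∈ Y
      refine ⟨M.mul_mem (M.mul_mem hd'M (hR.1 hr')) (M.inv_mem hd'M), mem_centralizer_singleton_iff.2 ?_⟩
      have h1 : Commute (d' * r' * d'⁻¹) z' :=
        hd'z ▸ (S.central_z r' hr').symm.map (MulAut.conj d').toMonoidHom
      obtain ⟨k, hk⟩ := (zpowers_eq_of_mem_prime S.order_z hz'z hz'1).ge (mem_zpowers z)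
      rw [← hk]
      exact (h1.zpow_right k).eq
    obtain ⟨v, hv, hvR⟩ := hRd.exists_conj hRsy
    rw [CfsgLib.Coprime.conjBy_conjBy] at hvR
    have hdR : v * d' ∈ normalizer (R : Set G) := CfsgLib.Coprime.conjBy_eq_self_iff.1 hvR
    have hdM : v * d' ∈ M := M.mul_mem hv.1 hd'M
    set d := v * d' with hd
    have hdz : d * z * d⁻¹ = z' := by
      calc d * z * d⁻¹ = v * (d' * z * d'⁻¹) * v⁻¹ := by rw [hd]; group
        _ = _ := by
          rw [hd'z, (hzz' (mem_centralizer_singleton_iff.1 hv.2)).eq, mul_inv_cancel_right]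
    -- `d` fixes the `s`-th power
    set c := d * r₀ * d⁻¹ * r₀⁻¹ with hc
    have hcR : c ∈ R := R.mul_mem ((mem_normalizer_iff.1 hdR r₀).1 hr₀) (R.inv_mem hr₀)
    have hcE : c ∈ E := by
      by_contra hcE
      refine hKc ((S.sup_eq hRp hcR hcE).ge.trans (sup_le (zpowers_le.2 ?_) hEK))
      exact commutator_mem_Kc hdM (hR.1 hr₀) hcR
    have hcc := S.comm r₀ hr₀ c hcR
    have h1 := mul_pow_prime hs2 (w := c) (r := r₀) (c := r₀ * c * r₀⁻¹ * c⁻¹) (by group)
      (S.zpowers_central hcc hcR) (S.zpowers_central hcc hr₀) (pow_eq_one_of_mem_zpowers S.order_z hcc)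
    rw [S.elem.2 c hcE, one_mul, show c * r₀ = d * r₀ * d⁻¹ by rw [hc]; group, conj_pow] at h1
    obtain ⟨k, hk⟩ :=
      (zpowers_eq_of_mem_prime S.order_z (S.pow r₀ hr₀) hr₀s).ge (mem_zpowers z)
    have h2 : Commute d z := by
      rw [← hk]
      exact (show Commute d (r₀ ^ s) from mul_inv_eq_iff_eq_mul.1 h1).zpow_right k
    refine mul_inv_eq_iff_eq_mul.1 ?_
    rw [← hz', ← hdz, h2.eq, mul_inv_cancel_right]
  have hrs : Commute n (r ^ s) := by
    obtain ⟨k, hk⟩ := S.pow r hr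
    rw [← hk]; exact hnz.zpow_right k
  have hca : n * r * n⁻¹ ∈ R := (mem_normalizer_iff.1 hnR r).1 hr
  have hcc := S.comm r⁻¹ (R.inv_mem hr) _ hca
  rw [mul_pow_prime hs2 (w := n * r * n⁻¹) (r := r⁻¹)
    (c := r⁻¹ * (n * r * n⁻¹) * r⁻¹⁻¹ * (n * r * n⁻¹)⁻¹) (by group)
    (S.zpowers_central hcc hca) (S.zpowers_central hcc (R.inv_mem hr))
    (pow_eq_one_of_mem_zpowers S.order_z hcc), conj_pow, hrs.eq, mul_inv_cancel_right, inv_pow,
    mul_inv_cancel]

end CfsgLib.Bender.Full
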