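import Cfsg.Agent.Lib.Bender.Full.CaseNonlonely.Lower

/-!
# A central element with two commuting involutions

Case I: `y ∈ Z(R)` of order `s` is nonlonely.  The commutators of `R` lie in the kernel on the involutions
of `C(y)`, and an element normalizing `R` differs from one of the pair by one acting trivially modulo the
nonlonely elements.
-/

set_option autoImplicit false
set_option linter.style.haveILetI false
set_option linter.unusedSectionVars false

namespace CfsgLib.Bender.Full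

open Subgroup MulAction
open scoped commutatorElement
open CfsgLib.Coprime (IsSylowIn conjBy)
open CfsgLib.Invol (fixed_unique)

universe u

variable {G : Type u} [Group G] [Finite G] {H : Subgroup G}

theorem Setting.canLower_of_central (h : Setting H) {x : G ⧸ H} (hx : x ≠ base H) {L : Subgroup G}
    (hL : Layer H (pairStab (base H) x) L) {s : ℕ} [hs : Fact s.Prime] (hs2 : s ≠ 2)
    (hsm : ¬ s ∣ numInv H) {R : Subgroup G} (hR : IsSylowIn s R (L ⊓ pairStab (base H) x))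
    (hne : ¬ R ≤ ⁅L ⊓ pairStab (base H) x, L ⊓ pairStab (base H) x⁆) {y : G} (hy : y ∈ R)
    (hys : orderOf y = s) (hcen : ∀ r ∈ R, Commute y r) (hyN : Nonlonely (zpowers y)) :
    CanLower (pairStab (base H) x) L := by
  set A := zpowers y with hA
  have hRD : R ≤ pairStab (base H) x := hR.1.trans inf_le_right
  have hRb : base H ∈ fixSet R H := hRD.trans inf_le_left
  have hRx : x ∈ fixSet R H := hRD.trans inf_le_right
  have hAR : A ≤ R := zpowers_le.2 hy
  have hAp : IsPGroup s A := hR.isPGroup.to_le hAR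
  have hA1 : A ≠ ⊥ := zpowers_ne_bot.2 fun e => hs.out.ne_one (by rw [← hys, e, orderOf_one])
  have hRA : R ≤ centralizer (A : Set G) := fun r hr => mem_centralizer_iff.2 (by
    rintro _ ⟨k, rfl⟩
    exact ((hcen r hr).zpow_left k).eq)
  have hRN : R ≤ normalizer (A : Set G) := hRA.trans (centralizer_le_normalizer _)
  have hAb : base H ∈ fixSet A H := hAR.trans hRb
  have hAx : x ∈ fixSet A H := hAR.trans hRx
  have h3 : 2 < (fixSet A H).ncard := h.three_of_not_dvd hsm hx.symm hAp (hAR.trans hRD)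
  have hRL : IsSylowIn s R L :=
    h.sylow_of_fix hx hL hR hs2
    fun _ _ _ hT _ => ⟨A, R, hAp, hA1, hyN, h3, hAR, le_rfl, hRN, hT⟩
  refine h.canLower_of_cases hx hL hR hs2 hRL hne fun _ => ?_
  have hkern : ∀ g ∈ kern H A (base H), Nonlonely (zpowers g) := fun g hg =>
    nonlonely_of_mem_kern h hAp hyN hAb h3 hg
  obtain ⟨t, ht, htb, htR⟩ := h.exists_invol_centralizing hR.isPGroup hRb
    (h.three_of_not_dvd hsm hx.symm hR.isPGroup hRD)
  obtain ⟨P, D⟩ := h.exists_localData hAp hA1 hyN hAb h3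
  refine ⟨fun g _ c hc hgc => mem_Kc hgc ?_, fun n hnL hnR r hr => ?_⟩
  · refine nonlonely_zpowers_conj (hkern c ?_) g
    refine (commutator_le.2 fun a ha a' ha' => ?_ : ⁅R, R⁆ ≤ kern H A (base H)) hc
    exact (galois_facts h hAp hA1 hyN hAb hAx hx h3 ht htb (centralizer_le hAR htR)).1 a a'
      ⟨hRA ha, hRD ha⟩ ⟨hRA ha', hRD ha'⟩ (mem_centralizer_iff.1 htR a ha)
      (mem_centralizer_iff.1 htR a' ha')
  have hnx : n • x ∈ fixSet R H := smul_mem_fixSet hnR hRx
  obtain ⟨g, hgP, ⟨i, hgi⟩, hgx, hgR⟩ := D.exists_two_map h hAx hx (le_inf hRN hRb) hRx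
    (hAR.trans hnx) hnx (hL.smul_ne_base hnL hx)
  have hgb : g • base H = base H := mem_stabilizer_iff.1 (D.le hgP).2
  have hgL : g ∈ L := hL.two_mem hgb hgi
  set K := fixKer A H ⊓ L with hK
  have hKE : K ≤ L ⊓ pairStab (base H) x :=
    le_inf inf_le_right (inf_le_left.trans (D.fixKer_le_pairStab hAx hx hAb))
  have hRK : R ≤ normalizer (K : Set G) := fun w hw => mem_normalizer_iff.2 fun v => and_congr
    (mem_normalizer_iff.1 (normalizer_le_normalizer_fixKer A (hRN hw)) v)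
    (mem_normalizer_iff.1 (le_normalizer (hR.1.trans inf_le_left hw)) v)
  have hX : K ⊔ R ≤ L ⊓ pairStab (base H) x := sup_le hKE hR.1
  have hsyl : IsSylowIn s R (K ⊔ R) := ⟨le_sup_right, le_antisymm
    (isPGroup_card_le hR.isPGroup le_sup_right) (by
      rw [hR.2]
      exact Nat.pow_le_pow_right hs.out.pos ((Nat.factorization_le_iff_dvd Nat.card_pos.ne'
        Nat.card_pos.ne').2 (card_dvd_of_le hX) s))⟩
  obtain ⟨κ, hκ, hqN, hqR⟩ := exists_frattini hRK hsyl (g := g) fun w hw => ⟨hgR w hw,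
    L.mul_mem (L.mul_mem (L.mul_mem (L.inv_mem hgL) (hR.1 hw).1) hgL) (L.inv_mem (hR.1 hw).1)⟩
  set q := g * κ⁻¹ with hq
  have hqK : ∀ w ∈ R, q * w * q⁻¹ * w⁻¹ ∈ Kc L R x := by
    intro w hw
    set v := q * w * q⁻¹ with hv
    have hvR : v ∈ R := (mem_normalizer_iff.1 hqN w).1 hw
    obtain ⟨h1, h2⟩ := hqR v hvR
    rw [show q⁻¹ * v * q * v⁻¹ = w * v⁻¹ by rw [hv]; group] at h1 h2
    have h3' : w * v⁻¹ ∈ Kc L R x := mem_Kc h2 (hkern _ (mem_kern.2 fun u hu hub huA =>
      (D.commute_fixKer h hAb hAx hx hu huA hub h1.1).symm))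
    simpa using inv_mem h3'
  have hκx : κ • x = x := mem_stabilizer_iff.1 (hKE hκ).2.2
  have hqx : q • x = n • x := by
    rw [hq, mul_smul, inv_smul_eq_iff.2 hκx.symm, hgx]
  have hqL : q ∈ L := L.mul_mem hgL (L.inv_mem hκ.2)
  set d := q⁻¹ * n with hd
  have hdL : d ∈ L := L.mul_mem (L.inv_mem hqL) hnL
  have hdE : d ∈ L ⊓ pairStab (base H) x := ⟨hdL, mem_stabilizer_iff.2 (hL.smul_base_eq hdL),
    mem_stabilizer_iff.2 (by rw [hd, mul_smul, ← hqx, inv_smul_smul])⟩
  have hdR : d ∈ normalizer (R : Set G) := mul_mem (inv_mem hqN) hnR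
  have hc : d * r * d⁻¹ * r⁻¹ ∈ R := R.mul_mem ((mem_normalizer_iff.1 hdR r).1 hr) (R.inv_mem hr)
  rw [show n * r * n⁻¹ * r⁻¹ = (q * (d * r * d⁻¹ * r⁻¹) * q⁻¹ * (d * r * d⁻¹ * r⁻¹)⁻¹) *
    (d * r * d⁻¹ * r⁻¹) * (q * r * q⁻¹ * r⁻¹) by rw [hd]; group]
  exact mul_mem (mul_mem (hqK _ hc) (commutator_mem_Kc hdE (hR.1 hr) hc)) (hqK r hr)

end CfsgLib.Bender.Full
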