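import Cfsg.Agent.Lib.Bender.Good
import Cfsg.Agent.Lib.CFun.OddNarrowAut
import Mathlib.Data.Nat.Choose.Dvd

/-!
# Small facts on groups of prime power order and a Frattini step
-/

set_option autoImplicit false
set_option linter.style.haveILetI false
set_option linter.unusedSectionVars false

namespace CfsgLib.Bender.Full

open Subgroup
open scoped commutatorElement
open CfsgLib.Coprime (IsSylowIn conjBy)

universe u

variable {G : Type u} [Group G]

/-- The power of a product of two elements whose commutator commutes with both. -/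
theorem mul_pow_of_central {w r c : G} (hc : r * w = c * (w * r)) (hcw : Commute c w)
    (hcr : Commute c r) (n : ℕ) : (w * r) ^ n = c ^ n.choose 2 * (w ^ n * r ^ n) := by
  have hrw : ∀ n : ℕ, r ^ n * w = c ^ n * (w * r ^ n) := by
    intro n
    induction n with
    | zero => simp
    | succ n ih =>
      rw [pow_succ' r n, mul_assoc, ih, ← mul_assoc, ← (hcr.pow_left n).eq, mul_assoc, ← mul_assoc r,
        hc, pow_succ]
      group
  induction n with
  | zero => simp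
  | succ n ih =>
    rw [pow_succ (w * r) n, ih, Nat.choose_succ_succ', Nat.choose_one_right, pow_add]
    calc c ^ n.choose 2 * (w ^ n * r ^ n) * (w * r)
        = c ^ n.choose 2 * (w ^ n * (r ^ n * w) * r) := by group
      _ = c ^ n.choose 2 * (w ^ n * c ^ n * (w * r ^ n) * r) := by rw [hrw]; group
      _ = c ^ n.choose 2 * (c ^ n * w ^ n * (w * r ^ n) * r) := by
        rw [((hcw.pow_left n).pow_right n).eq]
      _ = c ^ n.choose 2 * c ^ n * ((w ^ n * w) * (r ^ n * r)) := by group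
      _ = c ^ n.choose 2 * c ^ n * (w ^ (n + 1) * r ^ (n + 1)) := by rw [← pow_succ, ← pow_succ]
      _ = _ := by rw [((Commute.refl c).pow_pow _ _).eq]

/-- The power map of odd prime exponent on a group of class two with commutators of that order. -/
theorem mul_pow_prime {s : ℕ} [hs : Fact s.Prime] (hs2 : s ≠ 2) {w r c : G} (hc : r * w = c * (w * r))
    (hcw : Commute c w) (hcr : Commute c r) (hcs : c ^ s = 1) : (w * r) ^ s = w ^ s * r ^ s := by
  obtain ⟨k, hk⟩ := hs.out.dvd_choose_self (k := 2) (by omega)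
    (lt_of_le_of_ne hs.out.two_le hs2.symm)
  rw [mul_pow_of_central hc hcw hcr, hk, pow_mul, hcs, one_pow, one_mul]

variable [Finite G] {s : ℕ} [hs : Fact s.Prime]

include hs in
/-- A non-trivial normal subgroup of a group of prime power order meets the centre. -/
theorem exists_central_of_normal {N R : Subgroup G} (hR : IsPGroup s R) (hNR : N ≤ R)
    (hn : R ≤ normalizer (N : Set G)) (hne : N ≠ ⊥) :
    ∃ z ∈ N, orderOf z = s ∧ ∀ r ∈ R, Commute z r := by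
  obtain ⟨M, ⟨hMN, hMn, hM1⟩, hmin⟩ :=
    WellFounded.has_min (wellFounded_lt : WellFounded ((· < ·) : Subgroup G → _ → Prop))
      {M | M ≤ N ∧ R ≤ normalizer (M : Set G) ∧ M ≠ ⊥} ⟨N, le_rfl, hn, hne⟩
  have hlt : ⁅M, R⁆ < M := CfsgLib.CFun.Narrow.commutator_lt hR (hMN.trans hNR) hMn hM1
  have hbot : ⁅M, R⁆ = ⊥ := by
    by_contra hne'
    refine hmin ⁅M, R⁆ ⟨hlt.le.trans hMN, fun r hr => ?_, hne'⟩ hlt
    rw [← CfsgLib.Coprime.conjBy_eq_self_iff, conjBy, Subgroup.map_commutator]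
    change ⁅conjBy r M, conjBy r R⁆ = _
    rw [CfsgLib.Coprime.conjBy_eq_self_iff.2 (hMn hr),
      CfsgLib.Coprime.conjBy_eq_self_iff.2 (le_normalizer hr)]
  obtain ⟨k, hk⟩ := IsPGroup.iff_card.1 (hR.to_le (hMN.trans hNR))
  have hk0 : k ≠ 0 := fun e => hM1 (card_eq_one.1 (by rw [hk, e, pow_zero]))
  obtain ⟨z, hz⟩ := exists_prime_orderOf_dvd_card' (G := M) s (hk ▸ dvd_pow_self s hk0)
  exact ⟨z, hMN z.2, by rwa [orderOf_coe], fun r hr => (mem_centralizer_iff.1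
    (commutator_eq_bot_iff_le_centralizer.1 hbot z.2) r hr).symm⟩

include hs in
/-- Below a normal subgroup `R` not inside `Z` some element is central modulo `Z`. -/
theorem exists_central_mod {Z R T : Subgroup G} (hT : IsPGroup s T) (hRT : R ≤ T)
    (hn : T ≤ normalizer (R : Set G)) (hne : ¬ R ≤ Z) :
    ∃ w ∈ R, w ∉ Z ∧ ∀ t ∈ T, ⁅w, t⁆ ∈ Z := by
  obtain ⟨M, ⟨hMR, hMn, hMZ⟩, hmin⟩ :=
    WellFounded.has_min (wellFounded_lt : WellFounded ((· < ·) : Subgroup G → _ → Prop))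
      {M | M ≤ R ∧ T ≤ normalizer (M : Set G) ∧ ¬ M ≤ Z} ⟨R, le_rfl, hn, hne⟩
  have hlt : ⁅M, T⁆ < M :=
    CfsgLib.CFun.Narrow.commutator_lt hT (hMR.trans hRT) hMn fun e => hMZ (e ▸ bot_le)
  have hle : ⁅M, T⁆ ≤ Z := by
    by_contra hne'
    refine hmin ⁅M, T⁆ ⟨hlt.le.trans hMR, fun r hr => ?_, hne'⟩ hlt
    rw [← CfsgLib.Coprime.conjBy_eq_self_iff, conjBy, Subgroup.map_commutator]
    change ⁅conjBy r M, conjBy r T⁆ = _
    rw [CfsgLib.Coprime.conjBy_eq_self_iff.2 (hMn hr),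
      CfsgLib.Coprime.conjBy_eq_self_iff.2 (le_normalizer hr)]
  obtain ⟨w, hw, hwZ⟩ := SetLike.not_le_iff_exists.1 hMZ
  exact ⟨w, hMR hw, hwZ, fun t ht => hle (commutator_mem_commutator hw ht)⟩

include hs in
/-- Frattini: an element acting on `R` as one of the kernel `K` can be corrected to normalize `R`. -/
theorem exists_frattini {K R : Subgroup G} (hRK : R ≤ normalizer (K : Set G))
    (hsyl : IsSylowIn s R (K ⊔ R)) {g : G} (hg : ∀ r ∈ R, g⁻¹ * r * g * r⁻¹ ∈ K) :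
    ∃ κ ∈ K, g * κ⁻¹ ∈ normalizer (R : Set G) ∧
      ∀ r ∈ R, (g * κ⁻¹)⁻¹ * r * (g * κ⁻¹) * r⁻¹ ∈ K ⊓ R := by
  have hT : IsSylowIn s (conjBy g⁻¹ R) (K ⊔ R) := by
    refine ⟨?_, by rw [CfsgLib.Coprime.card_conjBy, hsyl.2]⟩
    rintro _ ⟨r, hr, rfl⟩
    show g⁻¹ * r * g⁻¹⁻¹ ∈ K ⊔ R
    rw [inv_inv, show g⁻¹ * r * g = (g⁻¹ * r * g * r⁻¹) * r by group]
    exact mul_mem_sup (hg r hr) hr
  obtain ⟨k, hk, hkT⟩ := hT.exists_conj hsyl
  have hk' : k ∈ ((R ⊔ K : Subgroup G) : Set G) := by rw [sup_comm]; exact hk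
  rw [coe_mul_of_left_le_normalizer_right R K hRK] at hk'
  obtain ⟨ρ, hρ, κ, hκ, rfl⟩ := hk'
  rw [← CfsgLib.Coprime.conjBy_conjBy, CfsgLib.Coprime.conjBy_conjBy κ] at hkT
  have h1 : conjBy (κ * g⁻¹) R = R := by
    have h2 := congrArg (conjBy ρ⁻¹) hkT
    rwa [CfsgLib.Coprime.conjBy_conjBy, inv_mul_cancel, CfsgLib.Coprime.conjBy_one,
      CfsgLib.Coprime.conjBy_eq_self_iff.2 (le_normalizer (inv_mem hρ))] at h2
  have hN : g * κ⁻¹ ∈ normalizer (R : Set G) := by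
    have h2 := inv_mem (CfsgLib.Coprime.conjBy_eq_self_iff.1 h1)
    rwa [mul_inv_rev, inv_inv] at h2
  refine ⟨κ, hκ, hN, fun r hr => ⟨?_, R.mul_mem ((mem_normalizer_iff''.1 hN r).1 hr) (R.inv_mem hr)⟩⟩
  rw [show (g * κ⁻¹)⁻¹ * r * (g * κ⁻¹) * r⁻¹ =
    κ * (g⁻¹ * r * g * r⁻¹) * (r * κ⁻¹ * r⁻¹) by group]
  exact K.mul_mem (K.mul_mem hκ (hg r hr)) ((mem_normalizer_iff.1 (hRK hr) κ⁻¹).1 (K.inv_mem hκ))

end CfsgLib.Bender.Full
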