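import Cfsg.Agent.Lib.Bender.Full.Transfer
import Cfsg.Agent.Lib.PGroup.GruenFirst
import Cfsg.Agent.Lib.Fusion.Transfer

/-!
# A focal bound from Grün's first theorem

If the conjugates in `R` of the commutators of `R` and the commutators of `R` with its normalizer lie in
`K`, then `R ⊓ ⁅L, L⁆ ≤ K` for the Sylow subgroup `R` of `L`; if moreover `R` is not in `K`, it is not in
`qKer s L`.
-/

set_option autoImplicit false
set_option linter.style.haveILetI false
set_option linter.unusedSectionVars false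

namespace CfsgLib.Bender.Full

open Subgroup
open scoped commutatorElement
open CfsgLib.Coprime (IsSylowIn)

universe u

variable {G : Type u} [Group G] [Finite G] {s : ℕ} [hs : Fact s.Prime]

include hs in
/-- Grün's first theorem with bounds on the two kinds of generators. -/
theorem sylow_inf_commutator_le (P : Sylow s G) {K : Subgroup G}
    (hder : ∀ g : G, ∀ c ∈ ⁅(P : Subgroup G), (P : Subgroup G)⁆, g * c * g⁻¹ ∈ (P : Subgroup G) →
      g * c * g⁻¹ ∈ K)
    (hnorm : ∀ n ∈ normalizer ((P : Subgroup G) : Set G), ∀ r ∈ (P : Subgroup G),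
      n * r * n⁻¹ * r⁻¹ ∈ K) : (P : Subgroup G) ⊓ commutator G ≤ K := by
  rw [CfsgLib.Gruen.gruen_first P, CfsgLib.Gruen.gruenR]
  refine sup_le ?_ (iSup_le fun z => ?_)
  · rintro x ⟨hxP, hxN⟩
    set N := normalizer ((P : Subgroup G) : Set G) with hN
    let S : Sylow s N := P.subtype le_normalizer
    obtain ⟨y, hy, rfl⟩ : x ∈ (commutator N).map N.subtype := by rwa [N.map_subtype_commutator]
    have hyf : y ∈ (S : Subgroup N).focalSubgroup := by
      rw [← CfsgLib.Fusion.commutator_inf_eq_focal (CfsgLib.Fusion.coprime_card_focalQuotient S)]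
      exact ⟨hy, hxP⟩
    suffices h : (S : Subgroup N).focalSubgroup ≤ K.comap N.subtype from h hyf
    rw [focalSubgroup_def, closure_le]
    rintro _ ⟨-, a, ha, v, rfl⟩
    rw [SetLike.mem_coe, mem_comap, coe_subtype]
    have h1 := K.inv_mem (hnorm v v.2 a ha)
    rwa [show ((v : G) * a * (v : G)⁻¹ * (a : G)⁻¹)⁻¹ = ((⁅a, v⁆ : N) : G) by
      simp [commutatorElement_def, mul_assoc]] at h1
  · rintro x ⟨hxP, c, hc, rfl⟩
    exact hder z c hc hxP

include hs in
/-- The focal bound inside a subgroup. -/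
theorem inf_commutator_le_of_bounds {L R K : Subgroup G} (hR : IsSylowIn s R L)
    (hder : ∀ g ∈ L, ∀ c ∈ ⁅R, R⁆, g * c * g⁻¹ ∈ R → g * c * g⁻¹ ∈ K)
    (hnorm : ∀ n ∈ L, n ∈ normalizer (R : Set G) → ∀ r ∈ R, n * r * n⁻¹ * r⁻¹ ∈ K) :
    R ⊓ ⁅L, L⁆ ≤ K := by
  rintro x ⟨hxR, hxL⟩
  set P := hR.toSylow
  have hmem : ∀ y : L, y ∈ (P : Subgroup L) ↔ (y : G) ∈ R := fun y => Iff.rfl
  obtain ⟨y, hy, rfl⟩ : x ∈ (commutator L).map L.subtype := by rwa [L.map_subtype_commutator]
  refine sylow_inf_commutator_le P (K := K.comap L.subtype) (fun g c hc hgc => ?_) (fun n hn r hr => ?_)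
    ⟨(hmem y).2 hxR, hy⟩
  · refine hder g g.2 (c : G) ?_ hgc
    have h1 := mem_map_of_mem L.subtype hc
    rwa [map_commutator, hR.map_toSylow] at h1
  · exact hnorm n n.2 (mem_normalizer_fintype fun w hw =>
      (mem_normalizer_iff.1 hn ⟨w, hR.1 hw⟩).1 hw) r hr

include hs in
/-- A Sylow subgroup with such a bound missing a part of it is not in `qKer`. -/
theorem not_le_qKer_of_bounds {L R K : Subgroup G} (hR : IsSylowIn s R L) (hne : ¬ R ≤ K)
    (hder : ∀ g ∈ L, ∀ c ∈ ⁅R, R⁆, g * c * g⁻¹ ∈ R → g * c * g⁻¹ ∈ K)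
    (hnorm : ∀ n ∈ L, n ∈ normalizer (R : Set G) → ∀ r ∈ R, n * r * n⁻¹ * r⁻¹ ∈ K) :
    ¬ R ≤ qKer s L := by
  intro hle
  refine hne fun r hr => inf_commutator_le_of_bounds hR hder hnorm ⟨hr, ?_⟩
  -- modulo `⁅L, L⁆` the elements of order prime to `s` form a subgroup
  obtain ⟨y, hy, rfl⟩ : r ∈ ((qKer s L).subgroupOf L).map L.subtype := by
    rw [map_subgroupOf_eq_of_le (qKer_le s L)]; exact hle hr
  rw [← L.map_subtype_commutator]
  refine mem_map_of_mem _ ((QuotientGroup.eq_one_iff y).1 ?_)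
  set A := Abelianization L
  let T : Subgroup A :=
    { carrier := {a | ¬ s ∣ orderOf a}
      one_mem' := by simp [hs.out.ne_one]
      mul_mem' := fun {a b} ha hb hd => by
        rcases (hs.out.dvd_mul.1 ((hd.trans (Commute.all a b).orderOf_mul_dvd_lcm).trans
          (Nat.lcm_dvd_mul _ _))) with h | h
        exacts [ha h, hb h]
      inv_mem' := fun {a} ha => by simpa [orderOf_inv] using ha }
  have hT : qKer s L ≤ (T.comap Abelianization.of).map L.subtype := by
    refine sup_le ?_ ((closure_le _).2 ?_)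
    · rw [← L.map_subtype_commutator]
      exact map_mono fun w hw => by
        rw [mem_comap, Abelianization.commutator_subset_ker Abelianization.of hw]; exact T.one_mem
    · rintro g ⟨hg, hgo⟩
      exact ⟨⟨g, hg⟩, fun hd => hgo (hd.trans ((orderOf_map_dvd _ _).trans (by rw [orderOf_mk]))), rfl⟩
  obtain ⟨z, hz, hzy⟩ := hT hy
  obtain rfl : z = y := L.subtype_injective hzy
  obtain ⟨k, hk⟩ := hR.isPGroup ⟨L.subtype z, hr⟩
  have hk' : z ^ s ^ k = 1 := L.subtype_injective (by simpa using congrArg Subtype.val hk)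
  obtain ⟨i, -, hi⟩ := (Nat.dvd_prime_pow hs.out).1 ((orderOf_map_dvd Abelianization.of z).trans
    (orderOf_dvd_of_pow_eq_one hk'))
  rcases i with _ | i
  · exact orderOf_eq_one_iff.1 (hi.trans (pow_zero s))
  · exact absurd (hi ▸ dvd_pow_self s i.succ_ne_zero) hz

end CfsgLib.Bender.Full
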