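import Cfsg.Agent.Lib.Bender.Full.CaseNonlonely.RankTwo
import Cfsg.Agent.Lib.Bender.OddQuot.Field

/-!
# The Galois image of the centralizer of a nonlonely group

`kern H A a`: the elements commuting with all involutions at `a` centralizing `A`.  The elements of
`C(A) ∩ G_{ac}` fixing one of these involutions act as field automorphisms on their group: commutators lie
in the kernel, and an element fixing only one of them generates modulo the kernel.
-/

set_option autoImplicit false
set_option linter.style.haveILetI false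
set_option linter.unusedSectionVars false

namespace CfsgLib.Bender.Full

open Subgroup MulAction
open scoped commutatorElement
open CfsgLib.Invol (fixed_unique invol_conj invol_smul_smul invol_inv invol_mul_self invol_ne_one)

universe u

variable {G : Type u} [Group G] [Finite G] {H : Subgroup G}

/-- The elements commuting with the involutions at `a` centralizing `A`. -/
def kern (H A : Subgroup G) (a : G ⧸ H) : Subgroup G :=
  centralizer {v : G | orderOf v = 2 ∧ v • a = a ∧ v ∈ centralizer (A : Set G)}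

omit [Finite G] in
theorem mem_kern {A : Subgroup G} {a : G ⧸ H} {g : G} :
    g ∈ kern H A a ↔ ∀ v : G, orderOf v = 2 → v • a = a → v ∈ centralizer (A : Set G) → Commute g v :=
  mem_centralizer_iff.trans ⟨fun hg v h1 h2 h3 => (hg v ⟨h1, h2, h3⟩).symm,
    fun hg v hv => (hg v hv.1 hv.2.1 hv.2.2).eq.symm⟩

variable (h : Setting H) {q : ℕ} [hq : Fact q.Prime] {A : Subgroup G} {a c : G ⧸ H}
include h hq

/-- An element of the kernel is nonlonely. -/
theorem nonlonely_of_mem_kern (hA : IsPGroup q A) (hN : Nonlonely A) (ha : a ∈ fixSet A H)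
    (h3 : 2 < (fixSet A H).ncard) {g : G} (hg : g ∈ kern H A a) : Nonlonely (zpowers g) := by
  obtain ⟨t, ht, hta, htA⟩ := h.exists_invol_centralizing hA ha h3
  obtain ⟨u, v, hu, hv, hne, huv, huA, hvA, hua, hva⟩ := h.exists_two_at hN ht htA hta
  have key : ∀ w : G, Commute g w → w ∈ centralizer (zpowers g : Set G) := fun w hw =>
    mem_centralizer_iff.2 (by rintro _ ⟨k, rfl⟩; exact (hw.zpow_left k).eq)
  exact nonlonely_iff.2 ⟨u, v, hu, hv, hne, huv, key u (mem_kern.1 hg u hu hua huA),
    key v (mem_kern.1 hg v hv hva hvA)⟩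

/-- The two consequences of semilinearity. -/
theorem galois_facts (hA : IsPGroup q A) (hA1 : A ≠ ⊥) (hN : Nonlonely A) (ha : a ∈ fixSet A H)
    (hc : c ∈ fixSet A H) (hca : c ≠ a) (h3 : 2 < (fixSet A H).ncard) {t : G} (ht : orderOf t = 2)
    (hta : t • a = a) (htA : t ∈ centralizer (A : Set G)) :
    (∀ r₁ r₂ : G, r₁ ∈ centralizer (A : Set G) ⊓ pairStab a c → r₂ ∈ centralizer (A : Set G) ⊓ pairStab a c →
      Commute r₁ t → Commute r₂ t → ⁅r₁, r₂⁆ ∈ kern H A a) ∧
    (∀ z : G, z ∈ centralizer (A : Set G) ⊓ pairStab a c → Commute z t →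
      (∀ v : G, orderOf v = 2 → v • a = a → v ∈ centralizer (A : Set G) → Commute z v → v = t) →
      ∀ g : G, g ∈ centralizer (A : Set G) ⊓ pairStab a c → Commute g t →
        ∃ i : ℤ, g * (z ^ i)⁻¹ ∈ kern H A a) := by
  classical
  obtain ⟨P, D⟩ := h.exists_localData hA hA1 hN ha h3
  let Ey : Subgroup G :=
    { carrier := {g | g = 1 ∨ (orderOf g = 2 ∧ g • a = a ∧ g ∈ centralizer (A : Set G))}
      one_mem' := Or.inl rfl
      mul_mem' := by
        rintro u v (rfl | ⟨hu, hua, huA⟩) hv
        · rwa [one_mul]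
        rcases hv with rfl | ⟨hv, hva, hvA⟩
        · rw [mul_one]; exact Or.inr ⟨hu, hua, huA⟩
        have hcomm := D.commute_invol_invol h ha hc hca h3 hA hu huA hua hv hvA hva
        rcases eq_or_ne u v with rfl | hne
        · exact Or.inl (invol_mul_self hu)
        refine Or.inr ⟨orderOf_eq_prime ?_ fun e => hne ?_, by rw [mul_smul, hva, hua], mul_mem huA hvA⟩
        · rw [hcomm.mul_pow, pow_two, pow_two, invol_mul_self hu, invol_mul_self hv, one_mul]
        · rw [← invol_inv hv]; exact eq_inv_of_mul_eq_one_left e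
      inv_mem' := by
        rintro u (rfl | ⟨hu, hua, huA⟩)
        · exact Or.inl inv_one
        · rw [invol_inv hu]; exact Or.inr ⟨hu, hua, huA⟩ }
  set M := centralizer (A : Set G) ⊓ pairStab a c with hM
  have hMn : M ≤ normalizer (Ey : Set G) := fun d hd => mem_normalizer_fintype fun w hw => by
    rcases hw with rfl | ⟨hw, hwa, hwA⟩
    · exact Or.inl (by group)
    · refine Or.inr ⟨invol_conj hw d, ?_, mul_mem (mul_mem hd.1 hwA) (inv_mem hd.1)⟩
      rw [mul_smul, mul_smul, mem_stabilizer_iff.1 (inv_mem hd.2.1), hwa, mem_stabilizer_iff.1 hd.2.1]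
  letI : CommGroup Ey :=
    { (inferInstance : Group Ey) with
      mul_comm := fun u w => Subtype.ext (by
        rcases u.2 with e | ⟨hu, hua, huA⟩
        · simp [e]
        rcases w.2 with e | ⟨hw, hwa, hwA⟩
        · simp [e]
        exact (D.commute_invol_invol h ha hc hca h3 hA hu huA hua hw hwA hwa).eq) }
  let act : M →* MulAut Ey :=
    { toFun := fun d =>
        { toFun := fun w => ⟨d * w * (d : G)⁻¹, (mem_normalizer_iff.1 (hMn d.2) w).1 w.2⟩
          invFun := fun w => ⟨(d : G)⁻¹ * w * d, (mem_normalizer_iff''.1 (hMn d.2) w).1 w.2⟩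
          left_inv := fun w => Subtype.ext (by simp [mul_assoc])
          right_inv := fun w => Subtype.ext (by simp [mul_assoc])
          map_mul' := fun w w' => Subtype.ext (by simp [mul_assoc]) }
      map_one' := MulEquiv.ext fun w => Subtype.ext (by simp)
      map_mul' := fun d d' => MulEquiv.ext fun w => Subtype.ext (by simp [mul_assoc]) }
  set t' : Ey := ⟨t, Or.inr ⟨ht, hta, htA⟩⟩ with ht'
  have ht1 : t' ≠ 1 := fun e => invol_ne_one ht (congrArg Subtype.val e)
  have hexp : ∀ w : Ey, w * w = 1 := fun w => by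
    rcases w.2 with e | ⟨e, -, -⟩
    · exact Subtype.ext (by simp [e])
    · exact Subtype.ext (invol_mul_self e)
  have hModd : Odd (Nat.card M) := (odd_pairStab h.se hca.symm).of_dvd_nat (card_dvd_of_le inf_le_right)
  obtain ⟨S⟩ := CfsgLib.Bender.OddQuot.exists_semilin hModd hexp act ht1 fun w hw => by
    obtain ⟨hw2, hwa, hwA⟩ := (w.2).resolve_left fun e => hw (Subtype.ext e)
    obtain ⟨d, hdA, hd, hde⟩ := D.exists_conj_invol h hc hca h3 hA ha ht htA hta hw2 hwA hwa
    exact ⟨⟨d, hdA, hd⟩, Subtype.ext hde⟩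
  have hfix : ∀ {g : M} {v : Ey}, act g v = v ↔ Commute (g : G) (v : G) := fun {g v} =>
    ⟨fun e => mul_inv_eq_iff_eq_mul.1 (congrArg Subtype.val e),
      fun e => Subtype.ext (mul_inv_eq_iff_eq_mul.2 e.eq)⟩
  have hkern : ∀ g : M, Commute (g : G) t → S.gal g = 1 → (g : G) ∈ kern H A a := by
    intro g hgt hgal
    refine mem_kern.2 fun v hv hva hvA => ?_
    refine (hfix (v := ⟨v, Or.inr ⟨hv, hva, hvA⟩⟩)).1 ?_
    rw [S.act_eq_one ((hfix (v := t')).2 hgt) hgal]
    rfl
  refine ⟨fun r₁ r₂ h₁ h₂ ht₁ ht₂ => ?_, fun z hz hzt hone g hg hgt => ?_⟩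
  · have h1 := hkern ⁅(⟨r₁, h₁⟩ : M), ⟨r₂, h₂⟩⁆ (by
      simp only [commutatorElement_def, coe_mul, coe_inv]
      exact ((ht₁.mul_left ht₂).mul_left ht₁.inv_left).mul_left ht₂.inv_left) (by
      rw [map_commutatorElement]
      exact commutatorElement_eq_one_iff_commute.2 (IsCyclic.isMulCommutative.is_comm.comm _ _))
    simpa [commutatorElement_def] using h1
  · set B : Subgroup M := zpowers ⟨z, hz⟩ with hB
    have hBt : ∀ β ∈ B, act β t' = t' := by
      rintro _ ⟨k, rfl⟩
      exact hfix.2 (by simpa using hzt.zpow_left k)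
    obtain ⟨j, hj, hjB⟩ := S.card_fixed B hBt
    have h2 : Nat.card {v : Ey // ∀ β ∈ B, act β v = v} = 2 := by
      rw [Nat.card_eq_two_iff]
      refine ⟨⟨1, fun β _ => map_one _⟩, ⟨t', hBt⟩, fun e => ht1 (congrArg Subtype.val e).symm, ?_⟩
      refine Set.eq_univ_of_forall fun v => ?_
      rcases v.1.2 with e | ⟨hv, hva, hvA⟩
      · exact Or.inl (Subtype.ext (Subtype.ext e))
      · exact Or.inr (Subtype.ext (Subtype.ext
          (hone v.1 hv hva hvA (hfix.1 (v.2 ⟨z, hz⟩ (mem_zpowers _))))))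
    rw [h2] at hj
    obtain rfl : j = 1 := (Nat.pow_right_injective le_rfl ((pow_one 2).trans hj)).symm
    haveI : Fact (Nat.Prime 2) := ⟨Nat.prime_two⟩
    haveI : FiniteDimensional (ZMod 2) S.F := Module.Finite.of_finite
    have htop : B.map S.gal = ⊤ := by
      refine eq_top_of_card_eq _ ?_
      rw [one_mul] at hjB
      rw [hjB, IsGalois.card_aut_eq_finrank]
    obtain ⟨β, ⟨i, rfl⟩, hβ⟩ : S.gal ⟨g, hg⟩ ∈ B.map S.gal := htop ▸ mem_top _
    refine ⟨i, ?_⟩
    have h1 := hkern (⟨g, hg⟩ * ((⟨z, hz⟩ : M) ^ i)⁻¹) (by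
      simpa using hgt.mul_left ((hzt.zpow_left i).inv_left))
      (by rw [map_mul, map_inv]; rw [show S.gal ((⟨z, hz⟩ : M) ^ i) = S.gal ⟨g, hg⟩ from hβ,
        mul_inv_cancel])
    simpa using h1

end CfsgLib.Bender.Full
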