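import Cfsg.Agent.Lib.Bender.Full.CaseNonlonely.Focal
import Cfsg.Agent.Lib.Bender.Full.CaseNonlonely.Kernel
import Cfsg.Agent.Lib.Bender.Full.CaseNonlonely.Facts

/-!
# Lowering a layer at a prime with controlled generators

`Setting.sylow_of_fix`: the common fixed points of a nonlonely group give the Sylow property in the layer.
`Kc`: the subgroup generated by the nonlonely elements and the commutators of the pair part.
`Setting.canLower_of_cases`: either it is everything or the focal bound applies.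
-/

set_option autoImplicit false
set_option linter.style.haveILetI false
set_option linter.unusedSectionVars false

namespace CfsgLib.Bender.Full

open Subgroup MulAction
open scoped commutatorElement
open CfsgLib.Coprime (IsSylowIn conjBy)
open CfsgLib.Invol (fixed_unique)

universe u

variable {G : Type u} [Group G] [Finite G] {H : Subgroup G} {L : Subgroup G} {x : G ⧸ H}

theorem Layer.smul_base_eq {D : Subgroup G} (hL : Layer H D L) {g : G} (hg : g ∈ L) :
    g • base H = base H :=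
  smul_base.2 (hL.le hg)

theorem Layer.smul_ne_base {D : Subgroup G} (hL : Layer H D L) {g : G} (hg : g ∈ L) {z : G ⧸ H}
    (hz : z ≠ base H) : g • z ≠ base H :=
  fun e => hz (smul_left_cancel g (e.trans (hL.smul_base_eq hg).symm))

theorem Layer.two_mem {D : Subgroup G} (hL : Layer H D L) {g : G} (hg : g • base H = base H) {i : ℕ}
    (hi : g ^ 2 ^ i = 1) : g ∈ L :=
  hL.two (CfsgLib.Bender.Transfer.mem_twoGen (smul_base.1 hg) ⟨i, hi⟩)

/-- The nonlonely elements and the commutators of the pair part inside `R`. -/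
def Kc (L R : Subgroup G) (x : G ⧸ H) : Subgroup G :=
  closure ({y : G | y ∈ R ∧ Nonlonely (zpowers y)} ∪
    (R ⊓ ⁅L ⊓ pairStab (base H) x, L ⊓ pairStab (base H) x⁆ : Subgroup G))

omit [Finite G] in
theorem mem_Kc {R : Subgroup G} {y : G} (hy : y ∈ R) (hN : Nonlonely (zpowers y)) : y ∈ Kc L R x :=
  subset_closure (Or.inl ⟨hy, hN⟩)

omit [Finite G] in
theorem commutator_mem_Kc {R : Subgroup G} {d r : G} (hd : d ∈ L ⊓ pairStab (base H) x)
    (hr : r ∈ L ⊓ pairStab (base H) x) (hy : d * r * d⁻¹ * r⁻¹ ∈ R) :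
    d * r * d⁻¹ * r⁻¹ ∈ Kc L R x :=
  subset_closure (Or.inr ⟨hy, by rw [← commutatorElement_def]; exact commutator_mem_commutator hd hr⟩)

namespace Setting

variable (h : Setting H) (hx : x ≠ base H) (hL : Layer H (pairStab (base H) x) L)
include h hx hL

theorem exists_layer_map {z : G ⧸ H} (hz : z ≠ base H) : ∃ l ∈ L, l • x = z := by
  obtain ⟨g', hg', hg'x⟩ := h.toMCtx.toCore.transitive (a := base H) hx.symm hz.symm
  have h1 : g' ∈ ((L ⊔ pairStab (base H) x : Subgroup G) : Set G) :=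
    hL.sup ((stabilizer_base H).le hg')
  rw [coe_mul_of_right_le_normalizer_left L _ ((pairStab_base_le H x).trans hL.norm)] at h1
  obtain ⟨l, hl, d, hd, rfl⟩ := h1
  exact ⟨l, hl, by rw [← hg'x, mul_smul, mem_stabilizer_iff.1 hd.2]⟩

theorem card_layer_pair {z : G ⧸ H} (hz : z ≠ base H) :
    Nat.card ↥(L ⊓ pairStab (base H) z) = Nat.card ↥(L ⊓ pairStab (base H) x) := by
  obtain ⟨l, hl, rfl⟩ := h.exists_layer_map hx hL hz
  have h1 : conjBy l (L ⊓ pairStab (base H) x) = L ⊓ pairStab (base H) (l • x) := by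
    rw [conjBy, Subgroup.map_inf _ _ _ (MulAut.conj l).injective]
    change conjBy l L ⊓ conjBy l (pairStab (base H) x) = _
    rw [CfsgLib.Coprime.conjBy_eq_self_iff.2 (le_normalizer hl), Core.Ctx.conjBy_pairStab,
      hL.smul_base_eq hl]
  rw [← h1, CfsgLib.Coprime.card_conjBy]

variable {s : ℕ} [hs : Fact s.Prime] {R : Subgroup G}
  (hR : IsSylowIn s R (L ⊓ pairStab (base H) x))
include hs hR

/-- `R` is Sylow in the layer when every larger candidate normalizes a subgroup with few common fixed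
points. -/
theorem sylow_of_fix (hs2 : s ≠ 2)
    (hex : ∀ T : Subgroup G, IsPGroup s T → R ≤ T → T ≤ normalizer (R : Set G) → T ≤ L →
      ∃ A W : Subgroup G, IsPGroup s A ∧ A ≠ ⊥ ∧ Nonlonely A ∧ 2 < (fixSet A H).ncard ∧ A ≤ W ∧ W ≤ R ∧
        W ≤ normalizer (A : Set G) ∧ T ≤ normalizer (W : Set G)) : IsSylowIn s R L := by
  classical
  have hRb : base H ∈ fixSet R H := hR.1.trans (inf_le_right.trans inf_le_left)
  have hRx : x ∈ fixSet R H := hR.1.trans (inf_le_right.trans inf_le_right)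
  obtain ⟨T, hT, hRT⟩ := exists_sylowIn_ge (K := L) hR.isPGroup (hR.1.trans inf_le_left)
  by_cases hle : T ≤ R
  · exact le_antisymm hle hRT ▸ hT
  exfalso
  obtain ⟨t, htT, htN, htR⟩ := CfsgLib.Invol.exists_mem_normalizer_notMem hT.isPGroup hRT hle
  set T1 := T ⊓ normalizer (R : Set G) with hT1
  have hT1p : IsPGroup s T1 := hT.isPGroup.to_le inf_le_left
  have hRT1 : R ≤ T1 := le_inf hRT le_normalizer
  have hT1L : T1 ≤ L := inf_le_left.trans hT.1
  obtain ⟨A, W, hA, hA1, hN, h3, hAW, hWR, hWA, hT1W⟩ := hex T1 hT1p hRT1 inf_le_right hT1L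
  obtain ⟨P, D⟩ := h.exists_localData hA hA1 hN (hAW.trans (hWR.trans hRb)) h3
  obtain ⟨j, hj⟩ := D.ncard_fix_inter h (hAW.trans (hWR.trans hRb)) (hAW.trans (hWR.trans hRx)) hx
    (le_inf hWA (hWR.trans hRb)) (hWR.trans hRx)
  set S : Set (G ⧸ H) := {z | z ∈ fixSet A H ∧ z ∈ fixSet W H ∧ z ≠ base H} with hS
  let Sa : SubMulAction T1 (G ⧸ H) :=
    { carrier := S
      smul_mem' := fun g z hz => by
        have hzW : (g : G) • z ∈ fixSet W H := smul_mem_fixSet (hT1W g.2) hz.2.1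
        exact ⟨hAW.trans hzW, hzW, hL.smul_ne_base (hT1L g.2) hz.2.2⟩ }
  obtain ⟨⟨z, hz⟩, hzfix⟩ := hT1p.nonempty_fixed_point_of_prime_not_dvd_card Sa (by
    rw [show Nat.card Sa = S.ncard from Nat.card_coe_set_eq S, hj]
    exact fun hd => hs2 ((Nat.prime_dvd_prime_iff_eq hs.out Nat.prime_two).1
      (hs.out.dvd_of_dvd_pow hd)))
  have hle1 : T1 ≤ L ⊓ pairStab (base H) z := le_inf hT1L fun g hg =>
    ⟨mem_stabilizer_iff.2 (hL.smul_base_eq (hT1L hg)),
      mem_stabilizer_iff.2 (congrArg Subtype.val (hzfix ⟨g, hg⟩))⟩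
  have hcard : Nat.card T1 ≤ Nat.card R := by
    rw [hR.2, ← h.card_layer_pair hx hL hz.2.2]
    exact isPGroup_card_le hT1p hle1
  exact htR ((eq_of_le_of_card_ge hRT1 hcard).ge ⟨htT, htN⟩)

/-- Lowering by control or by the focal bound. -/
theorem canLower_of_cases (hs2 : s ≠ 2) (hRL : IsSylowIn s R L)
    (hne : ¬ R ≤ ⁅L ⊓ pairStab (base H) x, L ⊓ pairStab (base H) x⁆)
    (hrest : ¬ R ≤ Kc L R x → (∀ g ∈ L, ∀ c ∈ ⁅R, R⁆, g * c * g⁻¹ ∈ R → g * c * g⁻¹ ∈ Kc L R x) ∧
      ∀ n ∈ L, n ∈ normalizer (R : Set G) → ∀ r ∈ R, n * r * n⁻¹ * r⁻¹ ∈ Kc L R x) :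
    CanLower (pairStab (base H) x) L := by
  by_cases hKc : R ≤ Kc L R x
  · refine canLower_of_controlled hL hs2 hR hRL (hKc.trans ((closure_le _).2 ?_)) hne
    rintro y (⟨hy, hyN⟩ | hy)
    · exact subset_closure (Or.inl ⟨hy, h.controlled_of hx (hR.1 hy).2
        (hR.isPGroup.to_le (zpowers_le.2 hy)) (Or.inr hyN)⟩)
    · exact subset_closure (Or.inr hy.2)
  · obtain ⟨hder, hnorm⟩ := hrest hKc
    exact ⟨s, R, hs.out, hs2, hR, hRL, not_le_qKer_of_bounds hRL hKc hder hnorm⟩

end Setting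

end CfsgLib.Bender.Full
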