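import Cfsg.Agent.Lib.Bender.Full.Descent
import Cfsg.Agent.Lib.SolvSignalizer.Main
import Cfsg.Agent.Lib.ProdFusion.Basic
import Cfsg.Agent.Lib.PGroup.ElementaryBasic

/-!
# A noncyclic group of a pair has a line with two commuting involutions

`Setting.existsUnique_of_lonely`: a group with three fixed points and lonely centralizer has exactly one
centralizing involution at each of them.  `Setting.exists_nonlonely_mem` (RANK): an elementary group of
order `s ^ 2` of a pair, `s` prime to the number of involutions, contains a nonlonely element.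
-/

set_option autoImplicit false
set_option linter.style.haveILetI false
set_option linter.unusedSectionVars false

namespace CfsgLib.Bender.Full

open Subgroup MulAction
open scoped commutatorElement
open CfsgLib.Coprime (IsSylowIn conjBy)
open CfsgLib.Invol (fixed_unique invol_conj invol_smul_smul invol_inv invol_mul_self)

universe u

variable {G : Type u} [Group G] [Finite G] {H : Subgroup G}

theorem Nonlonely.conj {A : Subgroup G} (hA : Nonlonely A) (g : G) : Nonlonely (conjBy g A) := by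
  obtain ⟨t, u, ht, hu, hne, hc, htA, huA⟩ := nonlonely_iff.1 hA
  have key : ∀ w : G, w ∈ centralizer (A : Set G) → g * w * g⁻¹ ∈ centralizer (conjBy g A : Set G) := by
    intro w hw
    refine mem_centralizer_iff.2 ?_
    rintro _ ⟨a, ha, rfl⟩
    show g * a * g⁻¹ * (g * w * g⁻¹) = g * w * g⁻¹ * (g * a * g⁻¹)
    calc g * a * g⁻¹ * (g * w * g⁻¹) = g * (a * w) * g⁻¹ := by group
      _ = g * (w * a) * g⁻¹ := by rw [mem_centralizer_iff.1 hw a ha]
      _ = _ := by group
  exact nonlonely_iff.2 ⟨g * t * g⁻¹, g * u * g⁻¹, invol_conj ht g, invol_conj hu g,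
    fun e => hne (mul_left_cancel (mul_right_cancel e)), hc.map (MulAut.conj g).toMonoidHom, key t htA,
    key u huA⟩

omit [Finite G] in
theorem conjBy_zpowers (g y : G) : conjBy g (zpowers y) = zpowers (g * y * g⁻¹) := by
  rw [conjBy, MonoidHom.map_zpowers]; rfl

theorem nonlonely_zpowers_conj {y : G} (hy : Nonlonely (zpowers y)) (g : G) :
    Nonlonely (zpowers (g * y * g⁻¹)) :=
  conjBy_zpowers g y ▸ hy.conj g

namespace Setting

variable (h : Setting H)
include h

/-- (LON) A lonely centralizer has exactly one involution at each fixed point. -/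
theorem existsUnique_of_lonely {q : ℕ} [Fact q.Prime] {A : Subgroup G} (hA : IsPGroup q A)
    (hlon : ¬ Nonlonely A) {a : G ⧸ H} (ha : a ∈ fixSet A H) (h3 : 2 < (fixSet A H).ncard) :
    ∃! t : G, orderOf t = 2 ∧ t • a = a ∧ t ∈ centralizer (A : Set G) := by
  obtain ⟨t, ht, hta, htA⟩ := h.exists_invol_centralizing hA ha h3
  refine ⟨t, ⟨ht, hta, htA⟩, fun v ⟨hv, hva, hvA⟩ => ?_⟩
  obtain ⟨c, hc, hca⟩ := Set.exists_ne_of_one_lt_ncard (show 1 < (fixSet A H).ncard by omega) a
  obtain ⟨w, hw, hwc, hwA⟩ := h.exists_invol_centralizing hA hc h3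
  exact h.eq_of_lonely (lonely_of_not_nonlonely hlon) hv ht hvA htA hva hta hw hwA
    fun e => hca (fixed_unique h.se hw hwc e)

/-- (RANK) -/
theorem exists_nonlonely_mem {s : ℕ} [hs : Fact s.Prime] (hsm : ¬ s ∣ numInv H) {b x : G ⧸ H}
    (hbx : b ≠ x) {W : Subgroup G} (hWD : W ≤ pairStab b x) (hW : Cfsg.IsElementaryAbelian s W)
    (hW2 : Nat.card W = s ^ 2) : ∃ w ∈ W, w ≠ 1 ∧ Nonlonely (zpowers w) := by
  by_contra hno
  push Not at hno
  haveI := hW.1
  have hWp : IsPGroup s W := IsPGroup.of_card hW2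
  have hfix : b ∈ fixSet W H := hWD.trans inf_le_left
  obtain ⟨t, ht, htb, htW⟩ := h.exists_invol_centralizing hWp hfix
    (h.three_of_not_dvd hsm hbx hWp hWD)
  -- a non-identity element of `W` commutes with no other involution at `b`
  have hone : ∀ w ∈ W, w ≠ 1 → ∀ v : G, orderOf v = 2 → v • b = b → Commute w v → v = t := by
    intro w hw hw1 v hv hvb hwv
    have hle : zpowers w ≤ W := zpowers_le.2 hw
    have hu := h.existsUnique_of_lonely (hWp.to_le hle) (hno w hw hw1) (a := b) (hle.trans hfix)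
      (h.three_of_not_dvd hsm hbx (hWp.to_le hle) (hle.trans hWD))
    refine hu.unique ⟨hv, hvb, mem_centralizer_iff.2 ?_⟩ ⟨ht, htb, centralizer_le hle htW⟩
    rintro z ⟨k, rfl⟩
    exact (hwv.zpow_left k).eq
  set D := pairStab b x with hD
  set C := centralizer ({t} : Set G) with hC
  have hm : C.relIndex D = numInv H := relIndex_fix h.se hbx ht htb
  obtain ⟨N, ⟨hND, hDN, hNC⟩, hmin⟩ :=
    WellFounded.has_min (wellFounded_lt : WellFounded ((· < ·) : Subgroup G → _ → Prop))
      {N | N ≤ D ∧ D ≤ normalizer (N : Set G) ∧ ¬ N ≤ C}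
      ⟨D, le_rfl, le_normalizer, fun hle => by
        rw [relIndex_eq_one.2 hle] at hm
        exact absurd h.toMCtx.one_lt_numInv (by omega)⟩
  have hDodd : Odd (Nat.card D) := odd_pairStab h.se hbx
  have hNne : N ≠ ⊥ := fun e => hNC (e ▸ bot_le)
  haveI : Nontrivial N := (Subgroup.nontrivial_iff_ne_bot N).2 hNne
  haveI : Group.IsSolvable N :=
    CfsgLib.FT.isSolvable_of_odd N (hDodd.of_dvd_nat (card_dvd_of_le hND))
  have hder : ⁅N, N⁆ ≤ C := by
    by_contra hnot
    have hlt : ⁅N, N⁆ < N := by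
      refine lt_of_le_of_ne (Subgroup.commutator_le_self N) fun e => ?_
      refine (Group.IsSolvable.commutator_lt_top_of_nontrivial N).ne (map_injective N.subtype_injective ?_)
      rw [Subgroup.map_subtype_commutator, e, ← MonoidHom.range_eq_map, Subgroup.range_subtype]
    exact hmin ⁅N, N⁆ ⟨hlt.le.trans hND, fun d hd => by
      rw [← CfsgLib.Coprime.conjBy_eq_self_iff, conjBy, Subgroup.map_commutator]
      change ⁅conjBy d N, conjBy d N⁆ = _
      rw [CfsgLib.Coprime.conjBy_eq_self_iff.2 (hDN hd)], hnot⟩ hlt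
  set N0 := N ⊓ C with hN0
  have hNN0 : N ≤ normalizer (N0 : Set G) := fun y hy =>
    CfsgLib.ProdFusion.mem_of_forall_conj_mem fun n hn => by
      refine ⟨N.mul_mem (N.mul_mem hy hn.1) (N.inv_mem hy), ?_⟩
      simpa [commutatorElement_def] using mul_mem (hder (commutator_mem_commutator hy hn.1)) hn.2
  have hWC : W ≤ C := fun w hw => mem_centralizer_singleton_iff.2 (mem_centralizer_iff.1 htW w hw)
  have hWN : W ≤ normalizer (N : Set G) := hWD.trans hDN
  have hWN0 : W ≤ normalizer (N0 : Set G) := fun w hw => mem_normalizer_iff.2 fun y =>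
    and_congr (mem_normalizer_iff.1 (hWN hw) y) (mem_normalizer_iff.1 (le_normalizer (hWC hw)) y)
  -- an element of `W` fixing a coset of `N0` in `N` fixes it
  have hfixN : ∀ w ∈ W, w ≠ 1 → ∀ y ∈ N, w * y * w⁻¹ * y⁻¹ ∈ N0 → y ∈ N0 := by
    intro w hw hw1 y hy hc
    have h1 : y⁻¹ * (w * y * w⁻¹) ∈ N0 := by
      have := (mem_normalizer_iff''.1 (hNN0 hy) _).1 hc
      simpa [mul_assoc] using this
    refine ⟨hy, mem_centralizer_singleton_iff.2 ?_⟩
    have hyb : y • b = b := mem_stabilizer_iff.1 (hND hy).1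
    have hwt : w * t * w⁻¹ = t := by
      rw [mem_centralizer_singleton_iff.1 (hWC hw), mul_inv_cancel_right]
    have h2 : w * (y * t * y⁻¹) * w⁻¹ = y * t * y⁻¹ := by
      have h3 := mem_centralizer_singleton_iff.1 h1.2
      calc w * (y * t * y⁻¹) * w⁻¹ = (w * y * w⁻¹) * (w * t * w⁻¹) * (w * y * w⁻¹)⁻¹ := by group
        _ = y * ((y⁻¹ * (w * y * w⁻¹)) * t) * (y⁻¹ * (w * y * w⁻¹))⁻¹ * y⁻¹ := by rw [hwt]; group
        _ = _ := by rw [h3]; group
    exact mul_inv_eq_iff_eq_mul.1 (hone w hw hw1 (y * t * y⁻¹) (invol_conj ht y) (by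
      rw [mul_smul, mul_smul, inv_smul_eq_iff.2 hyb.symm, htb, hyb]) (mul_inv_eq_iff_eq_mul.1 h2))
  set U := normalizer (N : Set G) ⊓ normalizer (N0 : Set G) with hU
  have hNU : N ≤ U := le_inf le_normalizer hNN0
  have hWU : W ≤ U := le_inf hWN hWN0
  haveI : (N0.subgroupOf U).Normal := normal_subgroupOf_of_le_normalizer inf_le_right
  let f : N →* U ⧸ N0.subgroupOf U := (QuotientGroup.mk' _).comp (inclusion hNU)
  let fW : W →* U ⧸ N0.subgroupOf U := (QuotientGroup.mk' _).comp (inclusion hWU)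
  have hinj : Function.Injective fW := (injective_iff_map_eq_one fW).2 fun w hw => by
    have hwN : (w : G) ∈ N0 := (QuotientGroup.eq_one_iff (inclusion hWU w)).1 hw
    by_contra hw1
    refine hNC fun y hy => (hfixN w w.2 (fun e => hw1 (Subtype.ext e)) y hy ?_).2
    rw [show (w : G) * y * (w : G)⁻¹ * y⁻¹ = (w : G) * (y * (w : G)⁻¹ * y⁻¹) by group]
    exact mul_mem hwN ((mem_normalizer_iff.1 (hNN0 hy) _).1 (inv_mem hwN))
  haveI : IsMulCommutative fW.range := ⟨⟨fun u v => by
    obtain ⟨_, a, rfl⟩ := u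
    obtain ⟨_, c, rfl⟩ := v
    exact Subtype.ext (by simp only [Subgroup.coe_mul, ← map_mul, mul_comm' a c])⟩⟩
  have hnc : ¬ IsCyclic fW.range := fun hc =>
    CfsgLib.SolvSignalizer.not_cyclic_of_exponent hW hW2.ge
      (isCyclic_of_injective fW.rangeRestrict fun a c e => hinj (congrArg Subtype.val e))
  have hnorm : fW.range ≤ normalizer (f.range : Set _) := by
    rintro _ ⟨w, rfl⟩
    refine CfsgLib.ProdFusion.mem_of_forall_conj_mem ?_
    rintro _ ⟨y, rfl⟩
    exact ⟨⟨w * y * (w : G)⁻¹, (mem_normalizer_iff.1 (hWN w.2) _).1 y.2⟩, rfl⟩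
  -- `s` does not divide the index of `N0`
  have hcop : (Nat.card fW.range).Coprime (Nat.card f.range) := by
    rw [← Nat.card_congr (MonoidHom.ofInjective hinj).toEquiv, hW2]
    refine Nat.Coprime.pow_left 2 (hs.out.coprime_iff_not_dvd.2 fun hd => hsm ?_)
    refine hd.trans ?_
    have hker : Nat.card f.range = C.relIndex N := by
      rw [← index_ker, relIndex]
      congr 1
      refine Subgroup.ext fun y => ?_
      rw [MonoidHom.mem_ker, mem_subgroupOf]
      show ((inclusion hNU y : U) : U ⧸ N0.subgroupOf U) = 1 ↔ _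
      rw [QuotientGroup.eq_one_iff]
      exact ⟨fun h => h.2, fun h => ⟨y.2, h⟩⟩
    rw [hker, ← hm]
    set S := C ⊓ D with hS
    have h1 : C.relIndex N = S.relIndex (N ⊔ S) := by
      have hSN : S ≤ normalizer (N : Set G) := inf_le_right.trans hDN
      have h2 : Nat.card ↥(S ⊔ N) * Nat.card ↥(S ⊓ N) = Nat.card S * Nat.card N :=
        CfsgLib.EABasic.card_sup_mul_card_inf_of_le_normalizer hSN
      have h3 := relIndex_mul_card_inf S (N ⊔ S)
      rw [inf_eq_left.2 le_sup_right] at h3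
      have h4 := relIndex_mul_card_inf C N
      have h5 : S ⊓ N = C ⊓ N := by
        rw [hS, inf_assoc, inf_eq_right.2 hND]
      rw [sup_comm, h5] at h2
      have hp : 0 < Nat.card S * Nat.card ↥(C ⊓ N) := Nat.mul_pos Nat.card_pos Nat.card_pos
      refine Nat.eq_of_mul_eq_mul_right hp ?_
      calc C.relIndex N * (Nat.card S * Nat.card ↥(C ⊓ N))
          = Nat.card S * (C.relIndex N * Nat.card ↥(C ⊓ N)) := by ring
        _ = Nat.card ↥(N ⊔ S) * Nat.card ↥(C ⊓ N) := by rw [h4, h2]
        _ = _ := by rw [← h3]; ring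
    rw [h1, show C.relIndex D = S.relIndex D by rw [hS, inf_relIndex_right],
      ← relIndex_mul_relIndex S (N ⊔ S) D le_sup_right (sup_le hND inf_le_right)]
    exact dvd_mul_right _ _
  have hle : f.range ≤ ⊥ := by
    refine CfsgLib.Coprime.le_of_centralizers_le hnc hnorm hcop ?_
    rintro _ ⟨w, rfl⟩ hw1 _ ⟨⟨y, rfl⟩, hc⟩
    rw [mem_bot]
    refine (QuotientGroup.eq_one_iff _).2 (hfixN w w.2 (fun e => hw1 (by
      rw [show w = 1 from Subtype.ext e, map_one])) y y.2 ?_)
    have h1 := mem_centralizer_singleton_iff.1 hc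
    have h2 : ((inclusion hWU w * inclusion hNU y * (inclusion hWU w)⁻¹ * (inclusion hNU y)⁻¹ : U) :
        U ⧸ N0.subgroupOf U) = 1 := by
      show fW w * f y * (fW w)⁻¹ * (f y)⁻¹ = 1
      rw [← h1]; group
    exact (QuotientGroup.eq_one_iff
      (inclusion hWU w * inclusion hNU y * (inclusion hWU w)⁻¹ * (inclusion hNU y)⁻¹)).1 h2
  refine hNC fun y hy => ?_
  have h1 : (inclusion hNU ⟨y, hy⟩ : U) ∈ N0.subgroupOf U :=
    (QuotientGroup.eq_one_iff _).1 (mem_bot.1 (hle ⟨⟨y, hy⟩, rfl⟩))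
  exact h1.2

end Setting

end CfsgLib.Bender.Full
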