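import Cfsg.Agent.Lib.Bender.Full.CaseNonlonely.Lower
import Cfsg.Agent.Lib.CFun.OddUniqueness

/-!
# The shape of a noncyclic group with lonely centre

If every central element of order `s` of the noncyclic `R` is lonely, `R` has a normal elementary subgroup
`E` of order `s ^ 2` with a nonlonely `y` and a lonely central `z`, `E = C_R(y)`, `|R| ≤ s ^ 3`, and
commutators, `s`-th powers and central elements lie in `⟨z⟩`.
-/

set_option autoImplicit false
set_option linter.style.haveILetI false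
set_option linter.unusedSectionVars false

namespace CfsgLib.Bender.Full

open Subgroup MulAction
open scoped commutatorElement
open CfsgLib.Coprime (IsSylowIn conjBy)
open CfsgLib.Invol (fixed_unique invol_conj)

universe u

variable {G : Type u} [Group G] [Finite G] {H : Subgroup G}

omit [Finite G] in
theorem conjBy_kern_le (A : Subgroup G) {a : G ⧸ H} {g : G} (hg : g • a = a) :
    conjBy g (kern H A a) ≤ kern H (conjBy g A) a := by
  rintro _ ⟨w, hw, rfl⟩
  refine mem_kern.2 fun v hv hva hvA => ?_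
  have h1 := mem_kern.1 hw (g⁻¹ * v * g) (by simpa using invol_conj hv g⁻¹)
    (by rw [mul_smul, mul_smul, hg, hva, inv_smul_eq_iff, hg]) (mem_centralizer_iff.2 fun c hc => by
      have h2 := mem_centralizer_iff.1 hvA (g * c * g⁻¹) ⟨c, hc, rfl⟩
      calc c * (g⁻¹ * v * g) = g⁻¹ * ((g * c * g⁻¹) * v) * g := by group
        _ = g⁻¹ * (v * (g * c * g⁻¹)) * g := by rw [h2]
        _ = g⁻¹ * v * g * c := by group)
  have h3 := h1.map (MulAut.conj g).toMonoidHom
  show Commute (g * w * g⁻¹) v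
  simpa [mul_assoc] using h3

omit [Finite G] in
theorem conjBy_kern (A : Subgroup G) {a : G ⧸ H} {g : G} (hg : g • a = a) :
    conjBy g (kern H A a) = kern H (conjBy g A) a := by
  refine le_antisymm (conjBy_kern_le A hg) ?_
  have h1 := map_mono (f := (MulAut.conj g).toMonoidHom)
    (conjBy_kern_le (conjBy g A) (g := g⁻¹) (inv_smul_eq_iff.2 hg.symm))
  change conjBy g (conjBy g⁻¹ _) ≤ conjBy g (kern H (conjBy g⁻¹ (conjBy g A)) a) at h1
  rwa [CfsgLib.Coprime.conjBy_conjBy, CfsgLib.Coprime.conjBy_conjBy, mul_inv_cancel, inv_mul_cancel,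
    CfsgLib.Coprime.conjBy_one, CfsgLib.Coprime.conjBy_one] at h1

variable {s : ℕ} [hs : Fact s.Prime]

omit [Finite G] in
include hs in
theorem zpowers_eq_of_mem_prime {w z : G} (hz : orderOf z = s) (hw : w ∈ zpowers z) (hw1 : w ≠ 1) :
    zpowers w = zpowers z := by
  obtain ⟨k, rfl⟩ := hw
  have h1 : orderOf (z ^ k) = s := orderOf_eq_prime (by
    rw [← zpow_natCast, ← zpow_mul, mul_comm, zpow_mul, zpow_natCast, ← hz, pow_orderOf_eq_one, one_zpow])
    hw1
  haveI : Finite (zpowers z) := Nat.finite_of_card_ne_zero (by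
    rw [Nat.card_zpowers, hz]; exact hs.out.ne_zero)
  refine eq_of_le_of_card_ge (zpowers_le.2 (zpow_mem (mem_zpowers z) k)) ?_
  rw [Nat.card_zpowers, Nat.card_zpowers, hz, h1]

include hs in
theorem mul_le_card_of_lt {C N : Subgroup G} (hN : IsPGroup s N) (h : C < N) :
    s * Nat.card C ≤ Nat.card N := by
  obtain ⟨i, hi⟩ := IsPGroup.iff_card.1 (hN.to_le h.le)
  obtain ⟨j, hj⟩ := IsPGroup.iff_card.1 hN
  have h1 : Nat.card C < Nat.card N := by
    refine lt_of_le_of_ne (card_le_of_le h.le) fun e => h.ne (eq_of_le_of_card_ge h.le e.ge)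
  rw [hi, hj] at h1 ⊢
  rw [← pow_succ']
  exact Nat.pow_le_pow_right hs.out.pos ((Nat.pow_lt_pow_iff_right hs.out.one_lt).1 h1)

/-- What is known when the centre is lonely. -/
structure Shape (H : Subgroup G) (R E : Subgroup G) (y z : G) (s : ℕ) : Prop where
  le : E ≤ R
  norm : R ≤ normalizer (E : Set G)
  elem : Cfsg.IsElementaryAbelian s E
  card : Nat.card E = s ^ 2
  mem_y : y ∈ E
  mem_z : z ∈ E
  order_y : orderOf y = s
  order_z : orderOf z = s
  central_z : ∀ r ∈ R, Commute z r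
  nonlonely_y : Nonlonely (zpowers y)
  lonely_z : ¬ Nonlonely (zpowers z)
  not_central_y : ∃ g ∈ R, ¬ Commute g y
  cent_le : R ⊓ centralizer ({y} : Set G) ≤ E
  card_le : Nat.card R ≤ s * Nat.card E
  central : ∀ u ∈ R, (∀ r ∈ R, Commute u r) → u ∈ zpowers z
  comm : ∀ r ∈ R, ∀ r' ∈ R, r * r' * r⁻¹ * r'⁻¹ ∈ zpowers z
  pow : ∀ r ∈ R, r ^ s ∈ zpowers z
  kern_le : E ⊓ kern H (zpowers y) (base H) ≤ zpowers y

namespace Shape

variable {R E : Subgroup G} {y z : G}

include hs in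
theorem sup_eq (S : Shape H R E y z s) (hR : IsPGroup s R) {g : G} (hg : g ∈ R) (hgE : g ∉ E) :
    zpowers g ⊔ E = R := by
  refine eq_of_le_of_card_ge (sup_le (zpowers_le.2 hg) S.le) (S.card_le.trans ?_)
  exact mul_le_card_of_lt (hR.to_le (sup_le (zpowers_le.2 hg) S.le))
    (lt_of_le_of_ne le_sup_right fun e => hgE (e.ge (mem_sup_left (mem_zpowers g))))

end Shape

theorem Setting.exists_shape (h : Setting H) {x : G ⧸ H} (hx : x ≠ base H) (hs2 : s ≠ 2)
    (hsm : ¬ s ∣ numInv H) {R : Subgroup G} (hRp : IsPGroup s R) (hRD : R ≤ pairStab (base H) x)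
    (hnc : ¬ IsCyclic R)
    (hlon : ∀ y ∈ R, orderOf y = s → (∀ r ∈ R, Commute y r) → ¬ Nonlonely (zpowers y)) :
    ∃ (E : Subgroup G) (y z : G), Shape H R E y z s := by
  obtain ⟨E, hER, hRE, hEe, hE2⟩ := CfsgLib.CFun.exists_normal_elementary_two hs2 hRp hnc
  haveI := hEe.1
  have hEne : E ≠ ⊥ := fun e => by
    rw [e, Subgroup.card_bot] at hE2
    exact absurd hE2.symm (Nat.one_lt_pow two_ne_zero hs.out.one_lt).ne'
  obtain ⟨z, hzE, hzo, hzc⟩ := exists_central_of_normal hRp hER hRE hEne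
  obtain ⟨y, hyE, hy1, hyN⟩ := h.exists_nonlonely_mem hsm hx.symm (hER.trans hRD) hEe hE2
  have hyR : y ∈ R := hER hyE
  have hzR : z ∈ R := hER hzE
  have hzN : ¬ Nonlonely (zpowers z) := hlon z hzR hzo hzc
  have hyo : orderOf y = s := orderOf_eq_prime (hEe.2 y hyE) hy1
  have hync : ∃ g ∈ R, ¬ Commute g y := by
    by_contra hcon
    push Not at hcon
    exact hlon y hyR hyo (fun r hr => (hcon r hr).symm) hyN
  have hyz : y ∉ zpowers z := fun hm => hzN (zpowers_eq_of_mem_prime hzo hm hy1 ▸ hyN)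
  have hz1 : z ≠ 1 := fun e => hs.out.ne_one (by rw [← hzo, e, orderOf_one])
  have hEzy : E ≤ zpowers z ⊔ zpowers y := by
    have hle : zpowers z ⊔ zpowers y ≤ E := sup_le (zpowers_le.2 hzE) (zpowers_le.2 hyE)
    refine (eq_of_le_of_card_ge hle ?_).ge
    rw [hE2, pow_two]
    nth_rewrite 2 [← hzo]
    rw [← Nat.card_zpowers]
    exact mul_le_card_of_lt (hRp.to_le (hle.trans hER))
      (lt_of_le_of_ne le_sup_left fun e => hyz (e.ge (mem_sup_right (mem_zpowers y))))
  set b := base H with hb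
  set C := R ⊓ centralizer ({y} : Set G) with hC
  have hCE : C = R ⊓ centralizer (E : Set G) := by
    refine le_antisymm (le_inf inf_le_left fun c hc => ?_)
      (inf_le_inf_left _ (centralizer_le (Set.singleton_subset_iff.2 hyE)))
    have hle : zpowers z ⊔ zpowers y ≤ centralizer ({c} : Set G) := sup_le
      (zpowers_le.2 (mem_centralizer_singleton_iff.2 (hzc c hc.1).eq))
      (zpowers_le.2 (mem_centralizer_singleton_iff.2 (mem_centralizer_singleton_iff.1 hc.2).symm))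
    exact mem_centralizer_iff.2 fun e he => mem_centralizer_singleton_iff.1 (hle (hEzy he))
  have hCn : R ≤ normalizer (C : Set G) := by
    rw [hCE]
    exact fun r hr => mem_normalizer_iff.2 fun w => and_congr (mem_normalizer_iff.1 (le_normalizer hr) w)
      (mem_normalizer_iff.1 (CfsgLib.Coprime.normalizer_le_normalizer_centralizer _ (hRE hr)) w)
  have hEC : E ≤ C := hCE ▸ le_inf hER fun e he => mem_centralizer_iff.2 fun e' he' =>
    congrArg Subtype.val (mul_comm' (⟨e', he'⟩ : E) ⟨e, he⟩)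
  have hRb : b ∈ fixSet R H := hRD.trans inf_le_left
  have hRx : x ∈ fixSet R H := hRD.trans inf_le_right
  have h3 : ∀ {A : Subgroup G}, A ≤ R → 2 < (fixSet A H).ncard := fun hA =>
    h.three_of_not_dvd hsm hx.symm (hRp.to_le hA) (hA.trans hRD)
  obtain ⟨t, ht, htb, htR⟩ := h.exists_invol_centralizing hRp hRb (h3 le_rfl)
  have htc : ∀ r ∈ R, Commute r t := fun r hr => mem_centralizer_iff.1 htR r hr
  have hone : ∀ v : G, orderOf v = 2 → v • b = b → Commute z v → v = t := by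
    intro v hv hvb hzv
    have hle : zpowers z ≤ R := zpowers_le.2 hzR
    refine (h.existsUnique_of_lonely (hRp.to_le hle) hzN (hle.trans hRb) (h3 hle)).unique
      ⟨hv, hvb, mem_centralizer_iff.2 ?_⟩ ⟨ht, htb, centralizer_le hle htR⟩
    rintro _ ⟨k, rfl⟩
    exact (hzv.zpow_left k).eq
  -- the Galois image: `C` is the kernel times `⟨z⟩`, for every nonlonely element it centralizes
  have key : ∀ w ∈ R, w ≠ 1 → Nonlonely (zpowers w) → (∀ c ∈ C, Commute c w) →
      (∀ c ∈ C, ∀ c' ∈ C, ⁅c, c'⁆ ∈ kern H (zpowers w) b) ∧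
      (∀ c ∈ C, ∃ i : ℤ, c * (z ^ i)⁻¹ ∈ kern H (zpowers w) b) ∧
      (∀ g ∈ kern H (zpowers w) b, Nonlonely (zpowers g)) := by
    intro w hw hw1 hwN hCw
    have hle : zpowers w ≤ R := zpowers_le.2 hw
    have hM : ∀ c ∈ C, c ∈ centralizer (zpowers w : Set G) ⊓ pairStab b x := fun c hc => ⟨by
      refine mem_centralizer_iff.2 ?_
      rintro _ ⟨k, rfl⟩
      exact ((hCw c hc).zpow_right k).eq.symm, hRD hc.1⟩
    obtain ⟨g1, g2⟩ := galois_facts h (hRp.to_le hle) (zpowers_ne_bot.2 hw1) hwN (hle.trans hRb)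
      (hle.trans hRx) hx (h3 hle) ht htb (centralizer_le hle htR)
    exact ⟨fun c hc c' hc' => g1 c c' (hM c hc) (hM c' hc') (htc c hc.1) (htc c' hc'.1),
      fun c hc => g2 z (hM z (hEC hzE)) (htc z hzR) (fun v hv hvb _ hzv => hone v hv hvb hzv) c (hM c hc)
        (htc c hc.1),
      fun g hg => nonlonely_of_mem_kern h (hRp.to_le hle) hwN (hle.trans hRb) (h3 hle) hg⟩
  obtain ⟨hcomK, hpowK, hnlK⟩ := key y hyR hy1 hyN fun c hc => mem_centralizer_singleton_iff.1 hc.2
  set K := C ⊓ kern H (zpowers y) b with hK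
  have hcore : ∀ N : Subgroup G, N ≤ K → R ≤ normalizer (N : Set G) → N = ⊥ := by
    intro N hN hn
    by_contra hne
    obtain ⟨w, hw, hwo, hwc⟩ := exists_central_of_normal hRp (hN.trans (inf_le_left.trans inf_le_left)) hn hne
    exact hlon w ((hN hw).1.1) hwo hwc (hnlK w (hN hw).2)
  have hzK : ∀ i : ℤ, z ^ i ∈ kern H (zpowers y) b → z ^ i = 1 := fun i hi => by
    by_contra hne
    exact hzN (zpowers_eq_of_mem_prime hzo (zpow_mem (mem_zpowers z) i) hne ▸ hnlK _ hi)
  have hab : ∀ c ∈ C, ∀ c' ∈ C, Commute c c' := by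
    have h1 : ⁅C, C⁆ = ⊥ := hcore _
      (le_inf (Subgroup.commutator_le_self C) (commutator_le.2 hcomK)) fun r hr => by
      rw [← CfsgLib.Coprime.conjBy_eq_self_iff, conjBy, Subgroup.map_commutator]
      change ⁅conjBy r C, conjBy r C⁆ = _
      rw [CfsgLib.Coprime.conjBy_eq_self_iff.2 (hCn hr)]
    intro c hc c' hc'
    exact commutatorElement_eq_one_iff_commute.1
      (mem_bot.1 (h1 ▸ commutator_mem_commutator hc hc'))
  -- exponent `s`
  let N : Subgroup G :=
    { carrier := {g | ∃ c ∈ C, c ^ s = g}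
      one_mem' := ⟨1, C.one_mem, one_pow s⟩
      mul_mem' := by
        rintro _ _ ⟨c, hc, rfl⟩ ⟨c', hc', rfl⟩
        exact ⟨c * c', C.mul_mem hc hc', (hab c hc c' hc').mul_pow s⟩
      inv_mem' := by
        rintro _ ⟨c, hc, rfl⟩
        exact ⟨c⁻¹, C.inv_mem hc, inv_pow c s⟩ }
  have hexp : ∀ c ∈ C, c ^ s = 1 := by
    have hN : N = ⊥ := by
      refine hcore N ?_ fun r hr => mem_normalizer_fintype ?_
      · rintro _ ⟨c, hc, rfl⟩
        obtain ⟨i, hi⟩ := hpowK c hc
        refine ⟨pow_mem hc s, ?_⟩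
        have hzi : (z ^ i)⁻¹ ^ s = 1 := by
          rw [inv_pow, ← zpow_natCast, ← zpow_mul, mul_comm, zpow_mul, zpow_natCast, ← hzo,
            pow_orderOf_eq_one, one_zpow, inv_one]
        have h1 := pow_mem hi s
        rwa [((hzc c hc.1).zpow_left i).inv_left.symm.mul_pow, hzi, mul_one] at h1
      · rintro _ ⟨c, hc, rfl⟩
        exact ⟨r * c * r⁻¹, (mem_normalizer_iff.1 (hCn hr) c).1 hc, conj_pow⟩
    exact fun c hc => mem_bot.1 (hN ▸ ⟨c, hc, rfl⟩)
  -- two conjugate kernels meet trivially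
  have hKw : ∀ y' ∈ E, y' ≠ 1 → Nonlonely (zpowers y') → ∀ w ∈ C ⊓ kern H (zpowers y') b, w ≠ 1 →
      C ⊓ kern H (zpowers y') b = C ⊓ kern H (zpowers w) b := by
    intro y' hy' hy'1 hy'N w hw hw1
    obtain ⟨-, -, n1⟩ := key y' (hER hy') hy'1 hy'N fun c hc => hab c hc y' (hEC hy')
    obtain ⟨-, p2, -⟩ := key w hw.1.1 hw1 (n1 w hw.2) fun c hc => hab c hc w hw.1
    have hle : kern H (zpowers w) b ≤ kern H (zpowers y') b := fun g hg =>
      mem_kern.2 fun v hv hvb hvy => mem_kern.1 hg v hv hvb (mem_centralizer_iff.2 (by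
        rintro _ ⟨k, rfl⟩
        exact ((mem_kern.1 hw.2 v hv hvb hvy).zpow_left k).eq))
    refine le_antisymm (fun c hc => ⟨hc.1, ?_⟩) (inf_le_inf_left _ hle)
    obtain ⟨i, hi⟩ := p2 c hc.1
    have h1 : z ^ i ∈ kern H (zpowers y') b := by
      have h2 := mul_mem (inv_mem (hle hi)) hc.2
      rwa [mul_inv_rev, inv_inv, inv_mul_cancel_right] at h2
    by_cases hzi : z ^ i = 1
    · rwa [hzi, inv_one, mul_one] at hi
    · exact (hzN (zpowers_eq_of_mem_prime hzo (zpow_mem (mem_zpowers z) i) hzi ▸ n1 _ h1)).elim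
  have hyK : y ∈ K := ⟨hEC hyE, mem_kern.2 fun v _ _ hvA => mem_centralizer_iff.1 hvA y (mem_zpowers y)⟩
  obtain ⟨g, hgR, hgy⟩ := hync
  have hgC : g ∉ C := fun hg => hgy (mem_centralizer_singleton_iff.1 hg.2)
  have hgb : g • b = b := smul_eq_of_mem hRb hgR
  have hcardR : Nat.card R ≤ s * Nat.card C := by
    rw [hCE]; exact CfsgLib.CFun.card_le_mul_inf_centralizer hRp hRE hEe hE2
  set K' := C ⊓ kern H (zpowers (g * y * g⁻¹)) b with hK'
  have hKK : conjBy g K = K' := by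
    rw [hK, conjBy, Subgroup.map_inf _ _ _ (MulAut.conj g).injective]
    change conjBy g C ⊓ conjBy g (kern H (zpowers y) b) = _
    rw [CfsgLib.Coprime.conjBy_eq_self_iff.2 (hCn hgR), conjBy_kern _ hgb, conjBy_zpowers]
  have hdisj : K ⊓ K' = ⊥ := by
    by_contra hne
    obtain ⟨w, hw, hw1⟩ := (Subgroup.bot_or_exists_ne_one _).resolve_left hne
    have h1 : K = K' := (hKw y hyE hy1 hyN w hw.1 hw1).trans (hKw (g * y * g⁻¹)
      ((mem_normalizer_iff.1 (hRE hgR) y).1 hyE) (fun e => hy1 (conj_eq_one_iff.1 e))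
      (nonlonely_zpowers_conj hyN g) w hw.2 hw1).symm
    have hgK : g ∈ normalizer (K : Set G) :=
      CfsgLib.Coprime.conjBy_eq_self_iff.1 (hKK.trans h1.symm)
    have hCK : C ≤ R ⊓ normalizer (K : Set G) := le_inf inf_le_left fun c hc =>
      mem_normalizer_fintype fun k hk => by
        rw [(hab c hc k hk.1).eq, mul_inv_cancel_right]; exact hk
    have hRK : R ≤ R ⊓ normalizer (K : Set G) := (eq_of_le_of_card_ge inf_le_left (hcardR.trans
      (mul_le_card_of_lt (hRp.to_le inf_le_left)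
        (lt_of_le_of_ne hCK fun e => hgC (e.ge ⟨hgR, hgK⟩))))).ge
    exact hy1 (mem_bot.1 (hcore K le_rfl (hRK.trans inf_le_right) ▸ hyK))
  have hcardK : Nat.card K ≤ s := by
    have hKC : K ⊔ K' ≤ C := sup_le inf_le_left inf_le_left
    have hnorm : K ≤ normalizer (K' : Set G) := fun k hk => mem_normalizer_fintype fun k' hk' => by
      rw [(hab k hk.1 k' hk'.1).eq, mul_inv_cancel_right]; exact hk'
    have h1 := CfsgLib.EABasic.card_sup_mul_card_inf_of_le_normalizer hnorm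
    rw [hdisj, Subgroup.card_bot, mul_one, ← hKK, CfsgLib.Coprime.card_conjBy] at h1
    have h2 : Nat.card C ≤ Nat.card K * s := by
      have hle : C ≤ K ⊔ zpowers z := fun c hc => by
        obtain ⟨i, hi⟩ := hpowK c hc
        rw [show c = c * (z ^ i)⁻¹ * z ^ i by group]
        exact mul_mem_sup ⟨C.mul_mem hc (C.inv_mem (zpow_mem (hEC hzE) i)), hi⟩
          (zpow_mem (mem_zpowers z) i)
      refine (card_le_of_le hle).trans (Nat.le_of_dvd (Nat.mul_pos Nat.card_pos hs.out.pos) ?_)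
      have h3 := CfsgLib.Coprime.card_sup_dvd_of_le_normalizer (H := K) (N := zpowers z) fun k hk =>
        centralizer_le_normalizer _ (mem_centralizer_iff.2 (by
          rintro _ ⟨i, rfl⟩
          exact ((hzc k hk.1.1).zpow_left i).eq))
      rwa [Nat.card_zpowers, hzo] at h3
    have h4 := (card_le_of_le hKC).trans h2
    rw [← hKK, h1] at h4
    exact Nat.le_of_mul_le_mul_left h4 Nat.card_pos
  have hKy : K ≤ zpowers y := (eq_of_le_of_card_ge (zpowers_le.2 hyK)
    (by rw [Nat.card_zpowers, hyo]; exact hcardK)).ge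
  have hCle : C ≤ E := fun c hc => by
    obtain ⟨i, hi⟩ := hpowK c hc
    rw [show c = c * (z ^ i)⁻¹ * z ^ i by group]
    exact E.mul_mem ((zpowers_le.2 hyE) (hKy ⟨C.mul_mem hc (C.inv_mem (zpow_mem (hEC hzE) i)), hi⟩))
      (zpow_mem hzE i)
  have hcard' : Nat.card R ≤ s * Nat.card E :=
    hcardR.trans (Nat.mul_le_mul_left s (card_le_of_le hCle))
  have hgE : g ∉ E := fun hg => hgC (hEC hg)
  have hsup : ∀ {r : G}, r ∈ R → r ∉ E → zpowers r ⊔ E = R := fun {r} hr hrE =>
    eq_of_le_of_card_ge (sup_le (zpowers_le.2 hr) hER) (hcard'.trans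
      (mul_le_card_of_lt (hRp.to_le (sup_le (zpowers_le.2 hr) hER))
        (lt_of_le_of_ne le_sup_right fun e => hrE (e.ge (mem_sup_left (mem_zpowers r))))))
  have hcentral : ∀ u ∈ R, (∀ r ∈ R, Commute u r) → u ∈ zpowers z := by
    intro u hu huc
    have huE : u ∈ E := hCle ⟨hu, mem_centralizer_singleton_iff.2 (huc y hyR).eq⟩
    by_contra huz
    have hle : zpowers z ⊔ zpowers u ≤ E := sup_le (zpowers_le.2 hzE) (zpowers_le.2 huE)
    have hy' : y ∈ zpowers z ⊔ zpowers u := by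
      refine (eq_of_le_of_card_ge hle ?_).ge hyE
      rw [hE2, pow_two]
      nth_rewrite 2 [← hzo]
      rw [← Nat.card_zpowers]
      exact mul_le_card_of_lt (hRp.to_le (hle.trans hER))
        (lt_of_le_of_ne le_sup_left fun e => huz (e.ge (mem_sup_right (mem_zpowers u))))
    have hgle : zpowers z ⊔ zpowers u ≤ centralizer ({g} : Set G) := sup_le
      (zpowers_le.2 (mem_centralizer_singleton_iff.2 (hzc g hgR).eq))
      (zpowers_le.2 (mem_centralizer_singleton_iff.2 (huc g hgR).eq))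
    exact hgy (mem_centralizer_singleton_iff.1 (hgle hy')).symm
  have hcomE : ⁅E, R⁆ ≤ zpowers z := by
    by_cases hbot : ⁅E, R⁆ = ⊥
    · rw [hbot]; exact bot_le
    have hn : R ≤ normalizer ((⁅E, R⁆ : Subgroup G) : Set G) := fun r hr => by
      rw [← CfsgLib.Coprime.conjBy_eq_self_iff, conjBy, Subgroup.map_commutator]
      change ⁅conjBy r E, conjBy r R⁆ = _
      rw [CfsgLib.Coprime.conjBy_eq_self_iff.2 (hRE hr),
        CfsgLib.Coprime.conjBy_eq_self_iff.2 (le_normalizer hr)]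
    have hlt : ⁅E, R⁆ < E := CfsgLib.CFun.Narrow.commutator_lt hRp hER hRE hEne
    obtain ⟨u, hu, huo, huc⟩ := exists_central_of_normal hRp (hlt.le.trans hER) hn hbot
    have h1 : zpowers u = ⁅E, R⁆ := eq_of_le_of_card_ge (zpowers_le.2 hu) (by
      rw [Nat.card_zpowers, huo]
      refine Nat.le_of_mul_le_mul_left ?_ hs.out.pos
      rw [← pow_two, ← hE2]
      exact mul_le_card_of_lt (hRp.to_le hER) hlt)
    rw [← h1]
    exact zpowers_le.2 (hcentral u ((hlt.le.trans hER) hu) huc)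
  have hzcen : ∀ c ∈ zpowers z, ∀ r ∈ R, Commute c r := by
    rintro _ ⟨k, rfl⟩ r hr
    exact (hzc r hr).zpow_left k
  have hdecomp : ∀ r ∈ R, ∃ (i : ℤ) (e : G), e ∈ E ∧ r = g ^ i * e := by
    intro r hr
    have h1 : r ∈ ((zpowers g ⊔ E : Subgroup G) : Set G) := by rw [hsup hgR hgE]; exact hr
    rw [coe_mul_of_left_le_normalizer_right (zpowers g) E ((zpowers_le.2 hgR).trans hRE)] at h1
    obtain ⟨_, ⟨i, rfl⟩, e, he, rfl⟩ := h1
    exact ⟨i, e, he, rfl⟩
  have hcomm : ∀ r ∈ R, ∀ r' ∈ R, r * r' * r⁻¹ * r'⁻¹ ∈ zpowers z := by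
    intro r hr r' hr'
    obtain ⟨i, e, he, rfl⟩ := hdecomp r hr
    obtain ⟨j, e', he', rfl⟩ := hdecomp r' hr'
    have swap : ∀ (j : ℤ) (e : G), e ∈ E → ∃ c ∈ zpowers z, e * g ^ j = g ^ j * e * c := fun j e he =>
      ⟨e⁻¹ * (g ^ j)⁻¹ * (e⁻¹)⁻¹ * (g ^ j)⁻¹⁻¹, by
        rw [← commutatorElement_def]
        exact hcomE (commutator_mem_commutator (E.inv_mem he) (R.inv_mem (zpow_mem hgR j))), by group⟩
    obtain ⟨c1, hc1, e1⟩ := swap j e he
    obtain ⟨c2, hc2, e2⟩ := swap i e' he'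
    have hee : e * e' = e' * e := congrArg Subtype.val (mul_comm' (⟨e, he⟩ : E) ⟨e', he'⟩)
    have h1 : g ^ i * e * (g ^ j * e') = g ^ (i + j) * (e * e') * c1 := by
      calc g ^ i * e * (g ^ j * e') = g ^ i * (e * g ^ j) * e' := by group
        _ = g ^ (i + j) * e * (c1 * e') := by rw [e1, zpow_add]; group
        _ = _ := by rw [(hzcen c1 hc1 e' (hER he')).eq]; group
    have h2 : g ^ j * e' * (g ^ i * e) = g ^ (i + j) * (e * e') * c2 := by
      calc g ^ j * e' * (g ^ i * e) = g ^ j * (e' * g ^ i) * e := by group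
        _ = g ^ (j + i) * e' * (c2 * e) := by rw [e2, zpow_add]; group
        _ = g ^ (i + j) * (e' * e) * c2 := by rw [(hzcen c2 hc2 e (hER he)).eq, add_comm]; group
        _ = _ := by rw [hee]
    have hX : g ^ (i + j) * (e * e') ∈ R := R.mul_mem (zpow_mem hgR _) (hER (E.mul_mem he he'))
    have hc : c1 * c2⁻¹ ∈ zpowers z := mul_mem hc1 (inv_mem hc2)
    rw [show g ^ i * e * (g ^ j * e') * (g ^ i * e)⁻¹ * (g ^ j * e')⁻¹ =
      (g ^ i * e * (g ^ j * e')) * (g ^ j * e' * (g ^ i * e))⁻¹ by group, h1, h2, mul_inv_rev,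
      show g ^ (i + j) * (e * e') * c1 * (c2⁻¹ * (g ^ (i + j) * (e * e'))⁻¹) =
        g ^ (i + j) * (e * e') * (c1 * c2⁻¹) * (g ^ (i + j) * (e * e'))⁻¹ by group,
      ← (hzcen _ hc _ hX).eq, mul_inv_cancel_right]
    exact hc
  have hpow : ∀ r ∈ R, r ^ s ∈ zpowers z := by
    intro r hr
    by_cases hrE : r ∈ E
    · rw [hEe.2 r hrE]; exact one_mem _
    haveI : (E.subgroupOf R).Normal := normal_subgroupOf_of_le_normalizer hRE
    have hidx : (E.subgroupOf R).index ∣ s := by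
      obtain ⟨k, hk⟩ := hRp.index (E.subgroupOf R)
      have h1 : Nat.card E * (E.subgroupOf R).index = Nat.card R := by
        rw [← Nat.card_congr (subgroupOfEquivOfLe hER).toEquiv, card_mul_index]
      rw [hk] at h1 ⊢
      have h2 : s ^ k ≤ s := Nat.le_of_mul_le_mul_left
        (show Nat.card E * s ^ k ≤ Nat.card E * s by rw [h1, mul_comm]; exact hcard') Nat.card_pos
      rcases k with _ | _ | k
      · exact one_dvd s
      · rw [pow_one]
      · exact absurd h2 (not_le.2 (lt_self_pow₀ hs.out.one_lt (by omega)))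
    have hrs : r ^ s ∈ E := by
      obtain ⟨k, hk⟩ := hidx
      have h1 := pow_mem (pow_index_mem (E.subgroupOf R) (⟨r, hr⟩ : R)) k
      rw [← pow_mul, ← hk] at h1
      exact h1
    refine hcentral _ (pow_mem hr s) fun r' hr' => ?_
    have hle : zpowers r ⊔ E ≤ centralizer ({r ^ s} : Set G) := sup_le
      (zpowers_le.2 (mem_centralizer_singleton_iff.2 ((Commute.refl r).pow_right s).eq))
      fun e he => mem_centralizer_singleton_iff.2
        (congrArg Subtype.val (mul_comm' (⟨e, he⟩ : E) ⟨r ^ s, hrs⟩))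
    exact (mem_centralizer_singleton_iff.1 (hle ((hsup hr hrE).ge hr'))).symm
  exact ⟨E, y, z, ⟨hER, hRE, hEe, hE2, hyE, hzE, hyo, hzo, hzc, hyN, hzN, ⟨g, hgR, hgy⟩, hCle, hcard',
    hcentral, hcomm, hpow, fun e he => hKy ⟨hEC he.1, he.2⟩⟩⟩

end CfsgLib.Bender.Full
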